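import Mathlib
import Cfsg.Agent.Lead.Coprime3
import Cfsg.Agent.Helper3.Stable

set_option autoImplicit false

namespace Cfsg.Agent.Helper6

open scoped Pointwise

universe u

/-- The subgroup generated by the conjugates of `Z` contained in `R`. -/
def wcl {G : Type u} [Group G] (Z R : Subgroup G) : Subgroup G :=
  ⨆ g ∈ {g : G | MulAut.conj g • Z ≤ R}, MulAut.conj g • Z

theorem wcl_le {G : Type u} [Group G] (Z R : Subgroup G) : wcl Z R ≤ R :=
  iSup₂_le (fun _ hg => hg)

theorem le_wcl {G : Type u} [Group G] (Z R : Subgroup G) (g : G) (h : MulAut.conj g • Z ≤ R) :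
    MulAut.conj g • Z ≤ wcl Z R :=
  le_biSup (fun g : G => MulAut.conj g • Z) (show g ∈ {g : G | MulAut.conj g • Z ≤ R} from h)

theorem wcl_mono {G : Type u} [Group G] (Z : Subgroup G) {R R' : Subgroup G} (h : R ≤ R') :
    wcl Z R ≤ wcl Z R' :=
  iSup₂_le (fun g hg => le_wcl Z R' g (le_trans hg h))

theorem conj_smul_smul' {G : Type u} [Group G] (x g : G) (Z : Subgroup G) :
    MulAut.conj x • MulAut.conj g • Z = MulAut.conj (x * g) • Z := by
  rw [← mul_smul, ← map_mul]

theorem card_conj_smul {G : Type u} [Group G] (x : G) (R : Subgroup G) :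
    Nat.card (MulAut.conj x • R : Subgroup G) = Nat.card R :=
  Subgroup.card_map_of_injective (MulAut.conj x).injective

theorem wcl_conj_le {G : Type u} [Group G] (Z R : Subgroup G) (x : G) :
    MulAut.conj x • wcl Z R ≤ wcl Z (MulAut.conj x • R) := by
  show (wcl Z R).map (MulAut.conj x).toMonoidHom ≤ _
  rw [Subgroup.map_le_iff_le_comap]
  apply iSup₂_le
  intro g hg
  rw [← Subgroup.map_le_iff_le_comap]
  show MulAut.conj x • MulAut.conj g • Z ≤ _
  rw [conj_smul_smul']
  apply le_wcl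
  rw [← conj_smul_smul']
  exact Subgroup.map_mono hg

theorem wcl_conj_eq {G : Type u} [Group G] [Finite G] (Z R : Subgroup G) (x : G)
    (hx : MulAut.conj x • R = R) : MulAut.conj x • wcl Z R = wcl Z R := by
  have h1 := wcl_conj_le Z R x
  rw [hx] at h1
  exact Subgroup.eq_of_le_of_card_ge h1 (card_conj_smul x _).ge

theorem matsuyama {G : Type u} [Group G] [Finite G] (p : ℕ) [Fact p.Prime] (Z Y : Subgroup G)
    (h : ∀ g : G, IsPGroup p ↥(⨆ y ∈ Y, MulAut.conj (y * g) • Z)) :
    ∃ P : Sylow p G, Y ≤ Subgroup.normalizer ((wcl Z (P : Subgroup G) : Subgroup G) : Set G) := by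
  classical
  -- the family of Y-invariant p-subgroups generated by conjugates of Z
  haveI : Nonempty {T : Subgroup G // IsPGroup p T ∧
      Y ≤ Subgroup.normalizer (T : Set G) ∧ wcl Z T = T} := by
    refine ⟨⟨⊥, IsPGroup.of_bot, ?_, le_antisymm (wcl_le Z ⊥) bot_le⟩⟩
    intro y _
    rw [← Cfsg.Agent.Lead.conj_smul_eq_self_iff]
    exact Subgroup.Normal.conj_smul_eq_self y ⊥
  obtain ⟨T', hTmax⟩ := Finite.exists_max
    (fun T : {T : Subgroup G // IsPGroup p T ∧
      Y ≤ Subgroup.normalizer (T : Set G) ∧ wcl Z T = T} => Nat.card (T : Subgroup G))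
  obtain ⟨T, hTp, hTY, hTw⟩ := T'
  have claimA : ∀ g : G, MulAut.conj g • Z ≤ Subgroup.normalizer (T : Set G) →
      MulAut.conj g • Z ≤ T := by
    intro g hg
    obtain ⟨V, hVdef⟩ : ∃ V : Subgroup G, V = ⨆ y ∈ Y, MulAut.conj (y * g) • Z := ⟨_, rfl⟩
    have hVp : IsPGroup p V := by rw [hVdef]; exact h g
    have hVle : ∀ y ∈ Y, MulAut.conj (y * g) • Z ≤ V := by
      intro y hy
      rw [hVdef]
      exact le_biSup (fun y : G => MulAut.conj (y * g) • Z) hy
    have hVN : V ≤ Subgroup.normalizer (T : Set G) := by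
      rw [hVdef]
      apply iSup₂_le
      intro y hy z hz
      rw [Cfsg.Agent.Lead.mem_conj_smul] at hz
      have hw : y⁻¹ * z * y ∈ MulAut.conj g • Z := by
        rw [Cfsg.Agent.Lead.mem_conj_smul]
        have e : g⁻¹ * (y⁻¹ * z * y) * g = (y * g)⁻¹ * z * (y * g) := by group
        rw [e]; exact hz
      have h1 := hg hw
      have h2 := hTY hy
      have e : z = y * (y⁻¹ * z * y) * y⁻¹ := by group
      rw [e]
      exact Subgroup.mul_mem _ (Subgroup.mul_mem _ h2 h1) (Subgroup.inv_mem _ h2)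
    have hYV : Y ≤ Subgroup.normalizer (V : Set G) := by
      intro y' hy'
      rw [← Cfsg.Agent.Lead.conj_smul_eq_self_iff]
      apply Subgroup.eq_of_le_of_card_ge _ (card_conj_smul y' _).ge
      show V.map (MulAut.conj y').toMonoidHom ≤ V
      rw [Subgroup.map_le_iff_le_comap]
      conv_lhs => rw [hVdef]
      apply iSup₂_le
      intro y hy
      rw [← Subgroup.map_le_iff_le_comap]
      show MulAut.conj y' • MulAut.conj (y * g) • Z ≤ V
      rw [conj_smul_smul', ← mul_assoc]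
      exact hVle (y' * y) (Y.mul_mem hy' hy)
    have hT'p : IsPGroup p (T ⊔ V : Subgroup G) := by
      rw [sup_comm]; exact hVp.to_sup_of_normal_right' hTp hVN
    have hT'Y : Y ≤ Subgroup.normalizer ((T ⊔ V : Subgroup G) : Set G) := by
      intro y hy
      rw [← Cfsg.Agent.Lead.conj_smul_eq_self_iff, Subgroup.smul_sup,
        (Cfsg.Agent.Lead.conj_smul_eq_self_iff y T).mpr (hTY hy),
        (Cfsg.Agent.Lead.conj_smul_eq_self_iff y V).mpr (hYV hy)]
    have hT'w : wcl Z (T ⊔ V) = T ⊔ V := by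
      apply le_antisymm (wcl_le Z _)
      apply sup_le
      · calc T = wcl Z T := hTw.symm
          _ ≤ wcl Z (T ⊔ V) := wcl_mono Z le_sup_left
      · conv_lhs => rw [hVdef]
        apply iSup₂_le
        intro y hy
        exact le_wcl Z _ _ (le_trans (hVle y hy) le_sup_right)
    have hcard := hTmax ⟨T ⊔ V, hT'p, hT'Y, hT'w⟩
    have hEq : T = T ⊔ V := Subgroup.eq_of_le_of_card_ge le_sup_left hcard
    have hVT : V ≤ T := by rw [hEq]; exact le_sup_right
    have := hVle 1 Y.one_mem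
    rw [one_mul] at this
    exact le_trans this hVT
  -- maximal U
  haveI : Nonempty {U : Subgroup G // IsPGroup p U ∧ T ≤ U ∧ wcl Z U = T} :=
    ⟨⟨T, hTp, le_rfl, hTw⟩⟩
  obtain ⟨U', hUmax⟩ := Finite.exists_max
    (fun U : {U : Subgroup G // IsPGroup p U ∧ T ≤ U ∧ wcl Z U = T} =>
      Nat.card (U : Subgroup G))
  obtain ⟨U, hUp, hTU, hUw⟩ := U'
  obtain ⟨P, hUP⟩ := hUp.exists_le_sylow
  have hUeq : U = (P : Subgroup G) := by
    by_contra hne
    haveI : Group.IsNilpotent (P : Subgroup G) := P.isPGroup'.isNilpotent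
    obtain ⟨y, hyP, hyN, hyU⟩ :=
      Cfsg.Agent.Helper3.exists_mem_normalizer_not_mem_of_nilpotent (P : Subgroup G) U
        inferInstance hUP hne
    obtain ⟨U₁, hU₁def⟩ : ∃ U₁ : Subgroup G,
        U₁ = (P : Subgroup G) ⊓ Subgroup.normalizer (U : Set G) := ⟨_, rfl⟩
    have hUU₁ : U ≤ U₁ := by rw [hU₁def]; exact le_inf hUP Subgroup.le_normalizer
    have hU₁p : IsPGroup p U₁ := by rw [hU₁def]; exact P.isPGroup'.to_le inf_le_left
    have hyU₁ : y ∈ U₁ := by rw [hU₁def]; exact Subgroup.mem_inf.mpr ⟨hyP, hyN⟩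
    have hnot : ¬ wcl Z U₁ = T := by
      intro hw
      have := hUmax ⟨U₁, hU₁p, le_trans hTU hUU₁, hw⟩
      have hEq : U = U₁ := Subgroup.eq_of_le_of_card_ge hUU₁ this
      exact hyU (by rw [hEq]; exact hyU₁)
    have hex : ∃ g : G, MulAut.conj g • Z ≤ U₁ ∧ ¬ MulAut.conj g • Z ≤ T := by
      by_contra hcon
      push Not at hcon
      apply hnot
      apply le_antisymm
      · exact iSup₂_le (fun g hg => hcon g hg)
      · calc T = wcl Z T := hTw.symm
          _ ≤ wcl Z U₁ := wcl_mono Z (le_trans hTU hUU₁)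
    obtain ⟨g, hgU₁, hgT⟩ := hex
    apply hgT
    apply claimA
    intro d hd
    have hdN : d ∈ Subgroup.normalizer (U : Set G) := by
      have := hgU₁ hd
      rw [hU₁def] at this
      exact (Subgroup.mem_inf.mp this).2
    have h1 := wcl_conj_eq Z U d ((Cfsg.Agent.Lead.conj_smul_eq_self_iff d U).mpr hdN)
    rw [hUw] at h1
    exact (Cfsg.Agent.Lead.conj_smul_eq_self_iff d T).mp h1
  refine ⟨P, ?_⟩
  rw [← hUeq, hUw]
  exact hTY

end Cfsg.Agent.Helper6
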