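import Mathlib
import Cfsg.Prelude.Def_Transfer
import Cfsg.Agent.Helper6.FrobNPC
import Cfsg.Agent.Helper5.Basic
import Cfsg.Agent.Helper3.SchurZ

set_option autoImplicit false

namespace Cfsg.Agent.Helper6

/-- An element lies in a subgroup as soon as all its powers of prime-power order do. -/
theorem mem_of_primary_powers_mem {G : Type*} [Group G] (C : Subgroup G) :
    ∀ (n : ℕ) (y : G), orderOf y = n → 0 < n →
      (∀ (q k : ℕ), q.Prime → (∃ j, orderOf (y ^ k) = q ^ j) → y ^ k ∈ C) → y ∈ C := by
  intro n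
  induction n using Nat.strong_induction_on with
  | _ n ih =>
    intro y hy hn hprim
    by_cases h1 : n = 1
    · rw [h1] at hy
      rw [orderOf_eq_one_iff.mp hy]
      exact C.one_mem
    · obtain ⟨q, hq, hqd⟩ := Nat.exists_prime_and_dvd h1
      obtain ⟨a, b, hb, hab⟩ := Nat.exists_eq_pow_mul_and_not_dvd hn.ne' q hq.ne_one
      have ha : a ≠ 0 := by
        rintro rfl
        rw [pow_zero, one_mul] at hab
        rw [hab] at hqd
        exact hb hqd
      have hbpos : 0 < b := by
        rcases Nat.eq_zero_or_pos b with h | h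
        · rw [h, mul_zero] at hab
          omega
        · exact h
      have hqa : 0 < q ^ a := pow_pos hq.pos a
      have ho1 : orderOf (y ^ b) = q ^ a := by
        rw [orderOf_pow' _ hbpos.ne', hy, hab, Nat.gcd_eq_right (dvd_mul_left _ _),
          Nat.mul_div_cancel _ hbpos]
      have hm1 : y ^ b ∈ C := hprim q b hq ⟨a, ho1⟩
      have ho2 : orderOf (y ^ q ^ a) = b := by
        rw [orderOf_pow' _ hqa.ne', hy, hab, Nat.gcd_eq_right (dvd_mul_right _ _),
          Nat.mul_div_cancel_left _ hqa]
      have hblt : b < n := by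
        rw [hab]
        have h2 : 2 ≤ q ^ a := by
          calc 2 ≤ q := hq.two_le
            _ = q ^ 1 := (pow_one q).symm
            _ ≤ q ^ a := Nat.pow_le_pow_right hq.pos (Nat.one_le_iff_ne_zero.mpr ha)
        nlinarith
      have hm2 : y ^ q ^ a ∈ C := by
        apply ih b hblt _ ho2 hbpos
        intro q' k hq' hk
        rw [← pow_mul] at hk ⊢
        exact hprim q' _ hq' hk
      have hcop : Nat.Coprime b (q ^ a) :=
        Nat.Coprime.pow_right a ((Nat.Prime.coprime_iff_not_dvd hq).mpr hb).symm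
      have hbez := Nat.gcd_eq_gcd_ab b (q ^ a)
      rw [Nat.Coprime.gcd_eq_one hcop] at hbez
      have hy' : y = (y ^ b) ^ (Nat.gcdA b (q ^ a)) * (y ^ q ^ a) ^ (Nat.gcdB b (q ^ a)) := by
        rw [← zpow_natCast y b, ← zpow_natCast y (q ^ a), ← zpow_mul, ← zpow_mul, ← zpow_add,
          ← hbez]
        simp
      rw [hy']
      exact C.mul_mem (C.zpow_mem hm1 _) (C.zpow_mem hm2 _)

/-- In a finite nilpotent group, elements of order prime to `p` centralize the Sylow
`p`-subgroup. -/
theorem mem_centralizer_sylow_of_coprime_of_isNilpotent {H : Type*} [Group H] [Finite H]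
    [Group.IsNilpotent H] {p : ℕ} [Fact p.Prime] (P : Sylow p H) (g : H)
    (hg : (orderOf g).Coprime p) : g ∈ Subgroup.centralizer ((P : Subgroup H) : Set H) := by
  apply mem_of_primary_powers_mem _ (orderOf g) g rfl (orderOf_pos g)
  rintro q k hq ⟨j, hj⟩
  by_cases hqp : q = p
  · subst hqp
    have h1 : orderOf (g ^ k) ∣ orderOf g := orderOf_pow_dvd k
    have h2 : (orderOf (g ^ k)).Coprime q := Nat.Coprime.coprime_dvd_left h1 hg
    rw [hj] at h2
    have hj0 : j = 0 := by
      by_contra h0
      have h3 : q ∣ q ^ j := dvd_pow_self q h0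
      exact hq.one_lt.ne' (Nat.Coprime.eq_one_of_dvd h2.symm h3)
    rw [hj0, pow_zero, orderOf_eq_one_iff] at hj
    rw [hj]
    exact Subgroup.one_mem _
  · haveI : Fact q.Prime := ⟨hq⟩
    obtain ⟨Q⟩ : Nonempty (Sylow q H) := inferInstance
    have hQn : (Q : Subgroup H).Normal := inferInstance
    have hPn : (P : Subgroup H).Normal := inferInstance
    have hmemQ : g ^ k ∈ (Q : Subgroup H) := by
      have hz : IsPGroup q (Subgroup.zpowers (g ^ k)) :=
        IsPGroup.of_card (n := j) (by rw [Nat.card_zpowers, hj])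
      obtain ⟨c, hc⟩ := Cfsg.Agent.Lead.exists_conj_mem_sylow Q hz
      have h1 := hc (g ^ k) (Subgroup.mem_zpowers _)
      have h2 := hQn.conj_mem _ h1 c⁻¹
      have e : c⁻¹ * (c * g ^ k * c⁻¹) * c⁻¹⁻¹ = g ^ k := by group
      rw [e] at h2
      exact h2
    have hdisj : Disjoint (P : Subgroup H) (Q : Subgroup H) :=
      IsPGroup.disjoint_of_ne p q (fun h => hqp h.symm) _ _ P.isPGroup' Q.isPGroup'
    rw [Subgroup.mem_centralizer_iff]
    intro x hx
    exact (Subgroup.commute_of_normal_of_disjoint _ _ hPn hQn hdisj x (g ^ k) hx hmemQ).eq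

variable {G : Type*} [Group G]

/-- A Sylow subgroup of a Hall subgroup (for a prime dividing its order) is a Sylow subgroup of
the whole group. -/
theorem exists_sylow_of_hall [Finite G] (H : Subgroup G) (hHall : (Nat.card H).Coprime H.index)
    {p : ℕ} [Fact p.Prime] (hp : p ∣ Nat.card H) (Q : Sylow p H) :
    ∃ P : Sylow p G, (P : Subgroup G) = (Q : Subgroup H).map H.subtype := by
  have hcard : Nat.card ((Q : Subgroup H).map H.subtype) = p ^ (Nat.card G).factorization p := by
    rw [Subgroup.card_map_of_injective (Subgroup.subtype_injective H), Sylow.card_eq_multiplicity]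
    congr 1
    rw [← Subgroup.card_mul_index H, Nat.factorization_mul Nat.card_pos.ne'
      Subgroup.index_ne_zero_of_finite, Finsupp.add_apply]
    have h0 : (H.index).factorization p = 0 := by
      apply Nat.factorization_eq_zero_of_not_dvd
      intro h
      have h1 : p ∣ Nat.gcd (Nat.card H) H.index := Nat.dvd_gcd hp h
      rw [Nat.Coprime.gcd_eq_one hHall] at h1
      exact (Fact.out : p.Prime).one_lt.ne' (Nat.dvd_one.mp h1)
    rw [h0, add_zero]
  exact ⟨Sylow.ofCard _ hcard, rfl⟩

/-- Membership in a normal Hall complement is detected by the order. -/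
theorem mem_iff_coprime_of_normal_complement [Finite G] (N H : Subgroup G) (hN : N.Normal)
    (hc : N.IsComplement' H) (hcop : (Nat.card N).Coprime (Nat.card H)) (x : G) :
    x ∈ N ↔ (orderOf x).Coprime (Nat.card H) := by
  constructor
  · intro hx
    have h1 : orderOf x ∣ Nat.card N := by
      have h0 := orderOf_dvd_natCard (⟨x, hx⟩ : N)
      rwa [Subgroup.orderOf_mk] at h0
    exact Nat.Coprime.coprime_dvd_left h1 hcop
  · intro hx
    have h1 : x ^ N.index ∈ N := N.pow_index_mem x
    rw [hc.symm.index_eq_card] at h1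
    obtain ⟨m, hm⟩ := exists_pow_eq_self_of_coprime hx.symm
    rw [← hm]
    exact N.pow_mem h1 m

/-- A Hall subgroup `H` such that `G` has a normal `p`-complement for every prime `p`
dividing `|H|` has a normal complement. -/
theorem exists_normal_complement_of_forall_npc [Finite G] (H : Subgroup G)
    (hHall : (Nat.card H).Coprime H.index)
    (h : ∀ p : ℕ, p.Prime → p ∣ Nat.card H → Cfsg.HasNormalPComplement p G) :
    ∃ N : Subgroup G, N.Normal ∧ N.IsComplement' H := by
  classical
  have h' : ∀ p : (Nat.card H).primeFactors, ∃ K : Subgroup G, K.Normal ∧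
      K.index = (p : ℕ) ^ (Nat.card H).factorization p ∧ (Nat.card K).Coprime p := by
    rintro ⟨p, hp⟩
    have hpp : p.Prime := Nat.prime_of_mem_primeFactors hp
    have hpd : p ∣ Nat.card H := Nat.dvd_of_mem_primeFactors hp
    haveI : Fact p.Prime := ⟨hpp⟩
    obtain ⟨P, N, hN, hc⟩ := h p hpp hpd
    refine ⟨N, hN, ?_, ?_⟩
    · rw [hc.symm.index_eq_card, Sylow.card_eq_multiplicity]
      congr 1
      rw [← Subgroup.card_mul_index H, Nat.factorization_mul Nat.card_pos.ne'
        Subgroup.index_ne_zero_of_finite, Finsupp.add_apply]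
      have h0 : (H.index).factorization p = 0 := by
        apply Nat.factorization_eq_zero_of_not_dvd
        intro h
        have h1 : p ∣ Nat.gcd (Nat.card H) H.index := Nat.dvd_gcd hpd h
        rw [Nat.Coprime.gcd_eq_one hHall] at h1
        exact hpp.one_lt.ne' (Nat.dvd_one.mp h1)
      rw [h0, add_zero]
    · have hidx : (P : Subgroup G).index = Nat.card N := hc.index_eq_card
      rw [← hidx]
      exact ((Nat.Prime.coprime_iff_not_dvd hpp).mpr P.not_dvd_index).symm
  choose f hf using h'
  have hNn : (⨅ i, f i).Normal := Subgroup.normal_iInf_normal (fun i => (hf i).1)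
  have hdisj : (⨅ i, f i) ⊓ H = ⊥ := by
    rw [eq_bot_iff]
    rintro x ⟨hxN, hxH⟩
    rw [Subgroup.mem_bot]
    by_contra hx1
    have hord : orderOf x ≠ 1 := fun h => hx1 (orderOf_eq_one_iff.mp h)
    obtain ⟨q, hq, hqd⟩ := Nat.exists_prime_and_dvd hord
    have hqH : q ∣ Nat.card H := by
      refine dvd_trans hqd ?_
      have h0 := orderOf_dvd_natCard (⟨x, hxH⟩ : H)
      rwa [Subgroup.orderOf_mk] at h0
    have hqm : q ∈ (Nat.card H).primeFactors :=
      Nat.mem_primeFactors.mpr ⟨hq, hqH, Nat.card_pos.ne'⟩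
    have hxK : x ∈ f ⟨q, hqm⟩ := (Subgroup.mem_iInf.mp hxN) ⟨q, hqm⟩
    have h1 : orderOf x ∣ Nat.card (f ⟨q, hqm⟩) := by
      have h0 := orderOf_dvd_natCard (⟨x, hxK⟩ : f ⟨q, hqm⟩)
      rwa [Subgroup.orderOf_mk] at h0
    have h2 := (hf ⟨q, hqm⟩).2.2
    exact hq.one_lt.ne' (Nat.Coprime.eq_one_of_dvd h2.symm (dvd_trans hqd h1))
  have hidx : (⨅ i, f i).index ≤ Nat.card H := by
    calc (⨅ i, f i).index ≤ ∏ i, (f i).index := Subgroup.index_iInf_le f
      _ = ∏ i : (Nat.card H).primeFactors, (i : ℕ) ^ (Nat.card H).factorization i :=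
          Finset.prod_congr rfl (fun i _ => (hf i).2.1)
      _ = Nat.card H := by
          rw [Finset.prod_coe_sort (Nat.card H).primeFactors
            (fun p => p ^ (Nat.card H).factorization p)]
          have h0 := Nat.factorization_prod_pow_eq_self (n := Nat.card H) Nat.card_pos.ne'
          rw [Finsupp.prod, Nat.support_factorization] at h0
          exact h0
  have hdvd : Nat.card H ∣ (⨅ i, f i).index := by
    have h1 : (⨅ i, f i).relIndex H = Nat.card H := by
      rw [← Subgroup.inf_relIndex_right, hdisj, Subgroup.relIndex_bot_left]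
    have h2 : (⨅ i, f i).relIndex H ∣ (⨅ i, f i).index :=
      Subgroup.relIndex_dvd_index_of_normal _ _
    exact (dvd_of_eq h1.symm).trans h2
  have hidx' : (⨅ i, f i).index = Nat.card H :=
    le_antisymm hidx (Nat.le_of_dvd (Nat.pos_of_ne_zero Subgroup.index_ne_zero_of_finite) hdvd)
  refine ⟨⨅ i, f i, hNn, Subgroup.isComplement'_of_card_mul_and_disjoint ?_
    (disjoint_iff.mpr hdisj)⟩
  have h5 := Subgroup.card_mul_index (⨅ i, f i)
  rw [hidx'] at h5
  exact h5

end Cfsg.Agent.Helper6
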