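import Mathlib
import Cfsg.Agent.Helper6.Matsuyama
import Cfsg.Agent.Lead.Coprime
import Cfsg.Agent.Lead.Coprime3
import Cfsg.Agent.Lead.Fpf3
import Cfsg.Agent.Helper1.Supersolvable2
import Cfsg.Agent.S0087

set_option autoImplicit false

namespace Cfsg.Agent.Helper6

open scoped Pointwise

universe u

/-- A group with an abelian maximal subgroup meeting its other conjugates trivially is
metabelian. -/
theorem ti_coatom_metabelian {Q : Type u} [Group Q] [Finite Q] (A : Subgroup Q) (hA : IsCoatom A)
    [hAc : IsMulCommutative A]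
    (hTI : ∀ y : Q, y ∉ A → A ⊓ MulAut.conj y • A = ⊥) : derivedSeries Q 2 = ⊥ := by
  classical
  have hNC : Subgroup.normalizer (A : Set Q) ≤ Subgroup.centralizer (A : Set Q) := by
    intro y hy
    by_cases hyA : y ∈ A
    · exact (Subgroup.le_centralizer A) hyA
    · have h1 := hTI y hyA
      rw [(Cfsg.Agent.Lead.conj_smul_eq_self_iff y A).mpr hy, inf_idem] at h1
      rw [h1, Subgroup.mem_centralizer_iff]
      intro h hh
      have : h = 1 := Subgroup.mem_bot.mp hh
      rw [this, one_mul, mul_one]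
  have hHall : Nat.Coprime (Nat.card A) A.index := by
    apply Nat.coprime_of_dvd
    intro p hp hpA hpi
    haveI : Fact p.Prime := ⟨hp⟩
    obtain ⟨P⟩ : Nonempty (Sylow p A) := inferInstance
    obtain ⟨P₀, hP₀def⟩ : ∃ P₀ : Subgroup Q, P₀ = (P : Subgroup A).map A.subtype := ⟨_, rfl⟩
    have hP₀A : P₀ ≤ A := by rw [hP₀def]; exact Subgroup.map_subtype_le _
    have hP₀p : IsPGroup p P₀ := by rw [hP₀def]; exact P.isPGroup'.map _
    have hP₀ne : P₀ ≠ ⊥ := by
      intro h
      have : (P : Subgroup A) = ⊥ := by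
        rw [hP₀def] at h
        exact (Subgroup.map_eq_bot_iff_of_injective _ A.subtype_injective).mp h
      exact P.ne_bot_of_dvd_card hpA this
    obtain ⟨S, hP₀S⟩ := hP₀p.exists_le_sylow
    by_cases hEq : P₀ = (S : Subgroup Q)
    · have h1 : A.index ∣ P₀.index := Subgroup.index_dvd_of_le hP₀A
      rw [hEq] at h1
      exact S.not_dvd_index (dvd_trans hpi h1)
    · haveI : Group.IsNilpotent (S : Subgroup Q) := S.isPGroup'.isNilpotent
      obtain ⟨y, hyS, hyN, hyP₀⟩ :=
        Cfsg.Agent.Helper3.exists_mem_normalizer_not_mem_of_nilpotent (S : Subgroup Q) P₀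
          inferInstance hP₀S hEq
      have hyA : y ∈ A := by
        by_contra hyA
        have h1 := hTI y hyA
        have h2 : P₀ ≤ A ⊓ MulAut.conj y • A := by
          apply le_inf hP₀A
          calc P₀ = MulAut.conj y • P₀ :=
                ((Cfsg.Agent.Lead.conj_smul_eq_self_iff y P₀).mpr hyN).symm
            _ ≤ MulAut.conj y • A := Subgroup.map_mono hP₀A
        rw [h1, le_bot_iff] at h2
        exact hP₀ne h2
      have hSA : IsPGroup p ((S : Subgroup Q) ⊓ A : Subgroup Q) := S.isPGroup'.to_le inf_le_left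
      have hle : (P : Subgroup A) ≤ ((S : Subgroup Q) ⊓ A).subgroupOf A := by
        intro x hx
        rw [Subgroup.mem_subgroupOf]
        refine Subgroup.mem_inf.mpr ⟨hP₀S ?_, x.2⟩
        rw [hP₀def]; exact ⟨x, hx, rfl⟩
      have hp' : IsPGroup p (((S : Subgroup Q) ⊓ A).subgroupOf A) := hSA.comap_subtype
      have hmax := P.is_maximal' hp' hle
      apply hyP₀
      rw [hP₀def]
      refine ⟨⟨y, hyA⟩, ?_, rfl⟩
      have hy' : (⟨y, hyA⟩ : A) ∈ ((S : Subgroup Q) ⊓ A).subgroupOf A :=
        Subgroup.mem_subgroupOf.mpr (Subgroup.mem_inf.mpr ⟨hyS, hyA⟩)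
      rw [hmax] at hy'
      exact hy'
  obtain ⟨K, hKn, hKc⟩ := Cfsg.Agent.S0087.result A hHall hNC
  haveI := hKn
  have hKA : K ⊓ A = ⊥ := hKc.disjoint.eq_bot
  have hKAtop : K ⊔ A = ⊤ := hKc.sup_eq_top
  have hNK : ∀ y : Q, y ∈ Subgroup.normalizer (K : Set Q) := fun y =>
    Subgroup.mem_normalizer_iff.mpr (fun k => ⟨fun hk => hKn.conj_mem k hk y,
      fun hk => by have := hKn.conj_mem _ hk y⁻¹; simpa [mul_assoc] using this⟩)
  have hmin : ∀ L : Subgroup Q, L ≤ K → A ≤ Subgroup.normalizer (L : Set Q) →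
      L = ⊥ ∨ L = K := by
    intro L hLK hAL
    rcases hA.le_iff.mp (le_sup_right : A ≤ L ⊔ A) with h | h
    · right
      have h1 : Nat.card (L ⊔ A : Subgroup Q) = Nat.card L * Nat.card A :=
        Cfsg.Agent.Lead.card_sup_of_le_normalizer L A hAL
          (by rw [eq_bot_iff, ← hKA]; exact inf_le_inf_right A hLK)
      have h2 : Nat.card (K ⊔ A : Subgroup Q) = Nat.card K * Nat.card A :=
        Cfsg.Agent.Lead.card_sup_of_le_normalizer K A (fun a _ => hNK a) hKA
      rw [h] at h1; rw [hKAtop] at h2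
      have h3 : Nat.card L = Nat.card K :=
        Nat.eq_of_mul_eq_mul_right Nat.card_pos (h1.symm.trans h2)
      exact Subgroup.eq_of_le_of_card_ge hLK h3.ge
    · left
      have : L ≤ K ⊓ A := le_inf hLK (by rw [← h]; exact le_sup_left)
      rwa [hKA, le_bot_iff] at this
  have hKab : K ≤ Subgroup.centralizer (K : Set Q) := by
    by_cases hK1 : K = ⊥
    · rw [hK1]; exact bot_le
    have hcardK : Nat.card K ≠ 1 := fun h => hK1 (Subgroup.card_eq_one.mp h)
    obtain ⟨r, hr, hrK⟩ := Nat.exists_prime_and_dvd hcardK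
    haveI : Fact r.Prime := ⟨hr⟩
    have hcop : (Nat.card A).Coprime (Nat.card K) := by
      have h1 := hKc.card_mul_card
      have h2 := Subgroup.card_mul_index A
      have h3 : Nat.card K = A.index := by
        have : Nat.card A * Nat.card K = Nat.card A * A.index := by rw [h2, mul_comm, h1]
        exact Nat.eq_of_mul_eq_mul_left Nat.card_pos this
      rw [h3]; exact hHall
    have hAsol : Group.IsSolvable A := Group.isSolvable_of_comm (fun a b => hAc.is_comm.comm a b)
    obtain ⟨R, hR⟩ := Cfsg.Agent.Lead.coprime_sylow_exists A K (fun a _ => hNK a) hcop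
      (Or.inl hAsol) r
    have hR0 : (R : Subgroup K).map K.subtype = K := by
      rcases hmin _ (Subgroup.map_subtype_le _) hR with h | h
      · exfalso
        have : (R : Subgroup K) = ⊥ :=
          (Subgroup.map_eq_bot_iff_of_injective _ K.subtype_injective).mp h
        exact R.ne_bot_of_dvd_card hrK this
      · exact h
    have hKp : IsPGroup r K := by
      have h1 : IsPGroup r ((R : Subgroup K).map K.subtype) := R.isPGroup'.map _
      rw [hR0] at h1; exact h1
    haveI : Nontrivial K := (Subgroup.nontrivial_iff_ne_bot K).mpr hK1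
    have hcen : (⊥ : Subgroup K) < Subgroup.center K := hKp.bot_lt_center
    have hLinv : A ≤ Subgroup.normalizer
        (((Subgroup.center K).map K.subtype : Subgroup Q) : Set Q) := by
      intro a ha
      apply Cfsg.Agent.Lead.mem_normalizer_of_conj_mem
      rintro _ ⟨z, hz, rfl⟩
      have hzK : a * (z : Q) * a⁻¹ ∈ K := hKn.conj_mem z z.2 a
      refine ⟨⟨a * (z : Q) * a⁻¹, hzK⟩, Subgroup.mem_center_iff.mpr ?_, rfl⟩
      intro k
      have hk' : a⁻¹ * (k : Q) * a ∈ K := by
        have := hKn.conj_mem k k.2 a⁻¹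
        rwa [inv_inv] at this
      have h1 := Subgroup.mem_center_iff.mp hz ⟨a⁻¹ * (k : Q) * a, hk'⟩
      have h2 : a⁻¹ * (k : Q) * a * (z : Q) = (z : Q) * (a⁻¹ * (k : Q) * a) :=
        congrArg Subtype.val h1
      apply Subtype.ext
      show (k : Q) * (a * (z : Q) * a⁻¹) = a * (z : Q) * a⁻¹ * (k : Q)
      calc (k : Q) * (a * (z : Q) * a⁻¹) = a * (a⁻¹ * (k : Q) * a * (z : Q)) * a⁻¹ := by group
        _ = a * ((z : Q) * (a⁻¹ * (k : Q) * a)) * a⁻¹ := by rw [h2]
        _ = a * (z : Q) * a⁻¹ * (k : Q) := by group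
    have hLK : (Subgroup.center K).map K.subtype = K := by
      rcases hmin _ (Subgroup.map_subtype_le _) hLinv with h | h
      · exfalso
        have : Subgroup.center K = ⊥ :=
          (Subgroup.map_eq_bot_iff_of_injective _ K.subtype_injective).mp h
        exact hcen.ne' this
      · exact h
    intro k hk
    rw [Subgroup.mem_centralizer_iff]
    intro k' hk'
    have hkc : k ∈ (Subgroup.center K).map K.subtype := by rw [hLK]; exact hk
    obtain ⟨z, hz, rfl⟩ := hkc
    have := Subgroup.mem_center_iff.mp hz ⟨k', hk'⟩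
    exact congrArg Subtype.val this
  have hcomm : commutator Q ≤ K := by
    rw [commutator_def, Subgroup.commutator_le]
    intro x _ y _
    have hx : x ∈ K ⊔ A := by rw [hKAtop]; trivial
    have hy : y ∈ K ⊔ A := by rw [hKAtop]; trivial
    obtain ⟨k, hk, a, ha, rfl⟩ := Subgroup.mem_sup_of_normal_left.mp hx
    obtain ⟨k', hk', a', ha', rfl⟩ := Subgroup.mem_sup_of_normal_left.mp hy
    have e1 : QuotientGroup.mk' K k = 1 := (QuotientGroup.eq_one_iff k).mpr hk
    have e2 : QuotientGroup.mk' K k' = 1 := (QuotientGroup.eq_one_iff k').mpr hk'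
    have e3 : a * a' = a' * a := congrArg Subtype.val (hAc.is_comm.comm ⟨a, ha⟩ ⟨a', ha'⟩)
    have e4 : QuotientGroup.mk' K a * QuotientGroup.mk' K a' =
        QuotientGroup.mk' K a' * QuotientGroup.mk' K a := by
      rw [← map_mul, ← map_mul, e3]
    apply (QuotientGroup.eq_one_iff _).mp
    show QuotientGroup.mk' K (k * a * (k' * a') * (k * a)⁻¹ * (k' * a')⁻¹) = 1
    simp only [map_mul, map_inv, e1, e2, one_mul]
    rw [e4]; group
  have h1 : derivedSeries Q 1 ≤ K := by
    rw [derivedSeries_one]; exact hcomm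
  have h2 : derivedSeries Q 2 ≤ ⁅K, K⁆ := Subgroup.commutator_mono h1 h1
  have h3 : ⁅K, K⁆ = ⊥ := Subgroup.commutator_eq_bot_iff_le_centralizer.mpr hKab
  rw [h3, le_bot_iff] at h2
  exact h2

/-- A finite group with an abelian maximal subgroup has derived length at most three. -/
theorem abelian_coatom_derived {G : Type u} [Group G] [Finite G] (A : Subgroup G)
    (hA : IsCoatom A) [hAc : IsMulCommutative A] : derivedSeries G 3 = ⊥ := by
  classical
  have hAA : ⁅A, A⁆ = ⊥ :=
    Subgroup.commutator_eq_bot_iff_le_centralizer.mpr (Subgroup.le_centralizer A)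
  by_cases hAn : A.Normal
  · haveI := hAn
    obtain ⟨g, hg⟩ : ∃ g : G, g ∉ A := by
      by_contra hcon
      push Not at hcon
      exact hA.1 (eq_top_iff.mpr (fun x _ => hcon x))
    have htop : A ⊔ Subgroup.zpowers g = ⊤ := by
      rcases hA.le_iff.mp (le_sup_left : A ≤ A ⊔ Subgroup.zpowers g) with h | h
      · exact h
      · exfalso; apply hg; rw [← h]; exact Subgroup.mem_sup_right (Subgroup.mem_zpowers g)
    have hcomm : commutator G ≤ A := by
      rw [commutator_def, Subgroup.commutator_le]
      intro x _ y _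
      have hx : x ∈ A ⊔ Subgroup.zpowers g := by rw [htop]; trivial
      have hy : y ∈ A ⊔ Subgroup.zpowers g := by rw [htop]; trivial
      obtain ⟨a, ha, u, hu, rfl⟩ := Subgroup.mem_sup_of_normal_left.mp hx
      obtain ⟨b, hb, v, hv, rfl⟩ := Subgroup.mem_sup_of_normal_left.mp hy
      obtain ⟨i, rfl⟩ := Subgroup.mem_zpowers_iff.mp hu
      obtain ⟨j, rfl⟩ := Subgroup.mem_zpowers_iff.mp hv
      have e1 : QuotientGroup.mk' A a = 1 := (QuotientGroup.eq_one_iff a).mpr ha
      have e2 : QuotientGroup.mk' A b = 1 := (QuotientGroup.eq_one_iff b).mpr hb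
      apply (QuotientGroup.eq_one_iff _).mp
      show QuotientGroup.mk' A (a * g ^ i * (b * g ^ j) * (a * g ^ i)⁻¹ * (b * g ^ j)⁻¹) = 1
      simp only [map_mul, map_inv, map_zpow, e1, e2, one_mul]
      rw [← zpow_add, ← zpow_neg, ← zpow_neg, ← zpow_add, ← zpow_add]
      have : i + j + -i + -j = 0 := by ring
      rw [this, zpow_zero]
    have h1 : derivedSeries G 1 ≤ A := by rw [derivedSeries_one]; exact hcomm
    have h2 : derivedSeries G 2 = ⊥ := by
      have : derivedSeries G 2 ≤ ⁅A, A⁆ := Subgroup.commutator_mono h1 h1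
      rwa [hAA, le_bot_iff] at this
    show ⁅derivedSeries G 2, derivedSeries G 2⁆ = ⊥
    rw [h2]; exact Subgroup.commutator_bot_left ⊥
  · have hNA : Subgroup.normalizer (A : Set G) = A := by
      rcases hA.le_iff.mp (Subgroup.le_normalizer : A ≤ Subgroup.normalizer (A : Set G))
        with h | h
      · exfalso; exact hAn (Subgroup.normalizer_eq_top_iff.mp h)
      · exact h
    have hZA : Subgroup.center G ≤ A := by
      rcases hA.le_iff.mp (le_sup_right : A ≤ Subgroup.center G ⊔ A) with h | h
      · exfalso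
        apply hAn
        constructor
        intro n hn x
        have hx : x ∈ Subgroup.center G ⊔ A := by rw [h]; trivial
        obtain ⟨z, hz, a, ha, rfl⟩ := Subgroup.mem_sup_of_normal_left.mp hx
        have e : z * a * n * (z * a)⁻¹ = a * n * a⁻¹ := by
          have hz' := Subgroup.mem_center_iff.mp hz
          calc z * a * n * (z * a)⁻¹ = z * (a * n * a⁻¹) * z⁻¹ := by group
            _ = (a * n * a⁻¹) * z * z⁻¹ := by rw [hz' (a * n * a⁻¹)]
            _ = a * n * a⁻¹ := by group
        rw [e]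
        exact A.mul_mem (A.mul_mem ha hn) (A.inv_mem ha)
      · rw [← h]; exact le_sup_left
    have hTI : ∀ g : G, g ∉ A → A ⊓ MulAut.conj g • A ≤ Subgroup.center G := by
      intro g hg x hx
      obtain ⟨hxA, hxAg⟩ := Subgroup.mem_inf.mp hx
      have hne : MulAut.conj g • A ≠ A := by
        intro h
        apply hg
        rw [← hNA]
        exact (Cfsg.Agent.Lead.conj_smul_eq_self_iff g A).mp h
      have hsup : A ⊔ MulAut.conj g • A = ⊤ := by
        rcases hA.le_iff.mp (le_sup_left : A ≤ A ⊔ MulAut.conj g • A) with h | h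
        · exact h
        · exfalso
          apply hne
          have hle : MulAut.conj g • A ≤ A := by
            have h' : MulAut.conj g • A ≤ A ⊔ MulAut.conj g • A := le_sup_right
            rwa [h] at h'
          exact Subgroup.eq_of_le_of_card_ge hle (card_conj_smul g A).ge
      have hC : A ⊔ MulAut.conj g • A ≤ Subgroup.centralizer ({x} : Set G) := by
        apply sup_le
        · intro a ha
          rw [Subgroup.mem_centralizer_iff]
          intro y hy
          rw [Set.mem_singleton_iff] at hy; rw [hy]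
          exact congrArg Subtype.val (hAc.is_comm.comm ⟨x, hxA⟩ ⟨a, ha⟩)
        · intro a ha
          rw [Subgroup.mem_centralizer_iff]
          intro y hy
          rw [Set.mem_singleton_iff] at hy; rw [hy]
          rw [Cfsg.Agent.Lead.mem_conj_smul] at ha hxAg
          have h1 : g⁻¹ * x * g * (g⁻¹ * a * g) = g⁻¹ * a * g * (g⁻¹ * x * g) :=
            congrArg Subtype.val (hAc.is_comm.comm ⟨_, hxAg⟩ ⟨_, ha⟩)
          calc x * a = g * (g⁻¹ * x * g * (g⁻¹ * a * g)) * g⁻¹ := by group
            _ = g * (g⁻¹ * a * g * (g⁻¹ * x * g)) * g⁻¹ := by rw [h1]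
            _ = a * x := by group
      rw [hsup] at hC
      rw [Subgroup.mem_center_iff]
      intro y
      have := hC (Subgroup.mem_top y)
      rw [Subgroup.mem_centralizer_iff] at this
      exact (this x (Set.mem_singleton x)).symm
    have hsurj := QuotientGroup.mk'_surjective (Subgroup.center G)
    have hAb : IsCoatom (A.map (QuotientGroup.mk' (Subgroup.center G))) :=
      Cfsg.Agent.Helper1.isCoatom_map_mk (Subgroup.center G) A hA hZA
    have hTIb : ∀ y : G ⧸ Subgroup.center G,
        y ∉ A.map (QuotientGroup.mk' (Subgroup.center G)) →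
        A.map (QuotientGroup.mk' (Subgroup.center G)) ⊓
          MulAut.conj y • A.map (QuotientGroup.mk' (Subgroup.center G)) = ⊥ := by
      intro y hy
      obtain ⟨g, rfl⟩ := hsurj y
      have hg : g ∉ A := fun h => hy (Subgroup.mem_map_of_mem _ h)
      rw [eq_bot_iff]
      intro x hx
      obtain ⟨hx1, hx2⟩ := Subgroup.mem_inf.mp hx
      obtain ⟨a, ha, rfl⟩ := hx1
      rw [Cfsg.Agent.Lead.mem_conj_smul] at hx2
      obtain ⟨a', ha', hmk⟩ := hx2
      have h1 : a'⁻¹ * (g⁻¹ * a * g) ∈ Subgroup.center G := by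
        apply (QuotientGroup.eq_one_iff _).mp
        show QuotientGroup.mk' (Subgroup.center G) (a'⁻¹ * (g⁻¹ * a * g)) = 1
        rw [map_mul, map_inv, map_mul, map_mul, map_inv, hmk]
        group
      have h2 : g⁻¹ * a * g ∈ A := by
        have := A.mul_mem ha' (hZA h1)
        rwa [mul_inv_cancel_left] at this
      have h3 : a ∈ A ⊓ MulAut.conj g • A :=
        Subgroup.mem_inf.mpr ⟨ha, (Cfsg.Agent.Lead.mem_conj_smul g a A).mpr h2⟩
      rw [Subgroup.mem_bot]
      exact (QuotientGroup.eq_one_iff a).mpr (hTI g hg h3)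
    have hQ := ti_coatom_metabelian (A.map (QuotientGroup.mk' (Subgroup.center G))) hAb hTIb
    have h2 : derivedSeries G 2 ≤ Subgroup.center G := by
      have := map_derivedSeries_eq hsurj 2
      rw [hQ] at this
      intro x hx
      have hx' : QuotientGroup.mk' (Subgroup.center G) x ∈
          (derivedSeries G 2).map (QuotientGroup.mk' (Subgroup.center G)) :=
        Subgroup.mem_map_of_mem _ hx
      rw [this, Subgroup.mem_bot] at hx'
      exact (QuotientGroup.eq_one_iff x).mp hx'
    show ⁅derivedSeries G 2, derivedSeries G 2⁆ = ⊥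
    rw [Subgroup.commutator_eq_bot_iff_le_centralizer]
    intro x hx
    rw [Subgroup.mem_centralizer_iff]
    intro y _
    exact (Subgroup.mem_center_iff.mp (h2 hx) y)

end Cfsg.Agent.Helper6
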