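import Mathlib

set_option autoImplicit false

namespace Cfsg.Agent.Helper6.L33D

abbrev Mat := Matrix (Fin 4) (Fin 4) (ZMod 13)

def g (c : List ℕ) (i : ℕ) : ℕ := c.getD i 0

def mulC (x y : List ℕ) : List ℕ :=
  [(g x 0 * g y 0 + g x 1 * g y 4 + g x 2 * g y 8 + g x 3 * g y 12) % 13,
   (g x 0 * g y 1 + g x 1 * g y 5 + g x 2 * g y 9 + g x 3 * g y 13) % 13,
   (g x 0 * g y 2 + g x 1 * g y 6 + g x 2 * g y 10 + g x 3 * g y 14) % 13,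
   (g x 0 * g y 3 + g x 1 * g y 7 + g x 2 * g y 11 + g x 3 * g y 15) % 13,
   (g x 4 * g y 0 + g x 5 * g y 4 + g x 6 * g y 8 + g x 7 * g y 12) % 13,
   (g x 4 * g y 1 + g x 5 * g y 5 + g x 6 * g y 9 + g x 7 * g y 13) % 13,
   (g x 4 * g y 2 + g x 5 * g y 6 + g x 6 * g y 10 + g x 7 * g y 14) % 13,
   (g x 4 * g y 3 + g x 5 * g y 7 + g x 6 * g y 11 + g x 7 * g y 15) % 13,
   (g x 8 * g y 0 + g x 9 * g y 4 + g x 10 * g y 8 + g x 11 * g y 12) % 13,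
   (g x 8 * g y 1 + g x 9 * g y 5 + g x 10 * g y 9 + g x 11 * g y 13) % 13,
   (g x 8 * g y 2 + g x 9 * g y 6 + g x 10 * g y 10 + g x 11 * g y 14) % 13,
   (g x 8 * g y 3 + g x 9 * g y 7 + g x 10 * g y 11 + g x 11 * g y 15) % 13,
   (g x 12 * g y 0 + g x 13 * g y 4 + g x 14 * g y 8 + g x 15 * g y 12) % 13,
   (g x 12 * g y 1 + g x 13 * g y 5 + g x 14 * g y 9 + g x 15 * g y 13) % 13,
   (g x 12 * g y 2 + g x 13 * g y 6 + g x 14 * g y 10 + g x 15 * g y 14) % 13,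
   (g x 12 * g y 3 + g x 13 * g y 7 + g x 14 * g y 11 + g x 15 * g y 15) % 13]

def addC (x y : List ℕ) : List ℕ :=
  [(g x 0 + g y 0) % 13,
   (g x 1 + g y 1) % 13,
   (g x 2 + g y 2) % 13,
   (g x 3 + g y 3) % 13,
   (g x 4 + g y 4) % 13,
   (g x 5 + g y 5) % 13,
   (g x 6 + g y 6) % 13,
   (g x 7 + g y 7) % 13,
   (g x 8 + g y 8) % 13,
   (g x 9 + g y 9) % 13,
   (g x 10 + g y 10) % 13,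
   (g x 11 + g y 11) % 13,
   (g x 12 + g y 12) % 13,
   (g x 13 + g y 13) % 13,
   (g x 14 + g y 14) % 13,
   (g x 15 + g y 15) % 13]

def oneC : List ℕ := [1, 0, 0, 0, 0, 1, 0, 0, 0, 0, 1, 0, 0, 0, 0, 1]
def zeroC : List ℕ := [0, 0, 0, 0, 0, 0, 0, 0, 0, 0, 0, 0, 0, 0, 0, 0]
def negC : List ℕ := [12, 0, 0, 0, 0, 12, 0, 0, 0, 0, 12, 0, 0, 0, 0, 12]

def toMat (c : List ℕ) : Mat := Matrix.of fun i j => ((g c (4 * i.val + j.val) : ℕ) : ZMod 13)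

def ca : List ℕ := [0, 0, 12, 0, 0, 0, 0, 12, 1, 0, 0, 2, 0, 1, 1, 0]
def cai : List ℕ := [0, 2, 1, 0, 1, 0, 0, 1, 12, 0, 0, 0, 0, 12, 0, 0]
def cb : List ℕ := [0, 0, 0, 4, 0, 0, 2, 0, 0, 6, 1, 0, 3, 0, 0, 1]
def cbi : List ℕ := [1, 0, 0, 9, 0, 1, 11, 0, 0, 7, 0, 0, 10, 0, 0, 0]

def L : List (List ℕ) := [
  [0, 0, 0, 4, 0, 0, 2, 0, 0, 6, 1, 0, 3, 0, 0, 1],
  [0, 0, 0, 6, 0, 0, 3, 0, 0, 4, 12, 0, 2, 0, 0, 12],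
  [0, 0, 0, 7, 0, 0, 10, 0, 0, 9, 1, 0, 11, 0, 0, 1],
  [0, 0, 0, 9, 0, 0, 11, 0, 0, 7, 12, 0, 10, 0, 0, 12],
  [0, 0, 1, 0, 0, 0, 0, 1, 12, 0, 0, 11, 0, 12, 12, 0],
  [0, 0, 5, 0, 0, 0, 0, 5, 5, 0, 0, 0, 0, 5, 0, 0],
  [0, 0, 8, 0, 0, 0, 0, 8, 8, 0, 0, 0, 0, 8, 0, 0],
  [0, 0, 12, 0, 0, 0, 0, 12, 1, 0, 0, 2, 0, 1, 1, 0],
  [0, 2, 1, 0, 1, 0, 0, 1, 12, 0, 0, 0, 0, 12, 0, 0],
  [0, 3, 8, 0, 8, 0, 0, 8, 5, 0, 0, 10, 0, 5, 5, 0],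
  [0, 4, 0, 0, 2, 0, 0, 0, 8, 0, 0, 7, 0, 8, 10, 0],
  [0, 4, 4, 0, 2, 0, 0, 4, 1, 0, 0, 9, 0, 1, 11, 0],
  [0, 4, 5, 0, 2, 0, 0, 5, 0, 0, 0, 7, 0, 0, 10, 0],
  [0, 4, 12, 0, 2, 0, 0, 12, 9, 0, 0, 9, 0, 9, 11, 0],
  [0, 6, 0, 0, 3, 0, 0, 0, 8, 0, 0, 9, 0, 8, 11, 0],
  [0, 6, 1, 0, 3, 0, 0, 1, 7, 0, 0, 7, 0, 7, 10, 0],
  [0, 6, 5, 0, 3, 0, 0, 5, 0, 0, 0, 9, 0, 0, 11, 0],
  [0, 6, 6, 0, 3, 0, 0, 6, 12, 0, 0, 7, 0, 12, 10, 0],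
  [0, 7, 0, 0, 10, 0, 0, 0, 5, 0, 0, 4, 0, 5, 2, 0],
  [0, 7, 7, 0, 10, 0, 0, 7, 1, 0, 0, 6, 0, 1, 3, 0],
  [0, 7, 8, 0, 10, 0, 0, 8, 0, 0, 0, 4, 0, 0, 2, 0],
  [0, 7, 12, 0, 10, 0, 0, 12, 6, 0, 0, 6, 0, 6, 3, 0],
  [0, 9, 0, 0, 11, 0, 0, 0, 5, 0, 0, 6, 0, 5, 3, 0],
  [0, 9, 1, 0, 11, 0, 0, 1, 4, 0, 0, 4, 0, 4, 2, 0],
  [0, 9, 8, 0, 11, 0, 0, 8, 0, 0, 0, 6, 0, 0, 3, 0],
  [0, 9, 9, 0, 11, 0, 0, 9, 12, 0, 0, 4, 0, 12, 2, 0],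
  [0, 10, 5, 0, 5, 0, 0, 5, 8, 0, 0, 3, 0, 8, 8, 0],
  [0, 11, 12, 0, 12, 0, 0, 12, 1, 0, 0, 0, 0, 1, 0, 0],
  [1, 0, 0, 0, 0, 1, 0, 0, 0, 0, 1, 0, 0, 0, 0, 1],
  [1, 0, 0, 2, 0, 1, 1, 0, 0, 11, 12, 0, 12, 0, 0, 12],
  [1, 0, 0, 6, 0, 1, 3, 0, 0, 4, 0, 0, 2, 0, 0, 0],
  [1, 0, 0, 9, 0, 1, 11, 0, 0, 7, 0, 0, 10, 0, 0, 0],
  [4, 0, 0, 4, 0, 4, 2, 0, 0, 9, 8, 0, 11, 0, 0, 8],
  [5, 0, 0, 0, 0, 5, 0, 0, 0, 3, 8, 0, 8, 0, 0, 8],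
  [5, 0, 0, 4, 0, 5, 2, 0, 0, 9, 9, 0, 11, 0, 0, 9],
  [5, 0, 0, 6, 0, 5, 3, 0, 0, 7, 7, 0, 10, 0, 0, 7],
  [5, 0, 0, 10, 0, 5, 5, 0, 0, 0, 8, 0, 0, 0, 0, 8],
  [6, 0, 0, 6, 0, 6, 3, 0, 0, 7, 8, 0, 10, 0, 0, 8],
  [7, 0, 0, 7, 0, 7, 10, 0, 0, 6, 5, 0, 3, 0, 0, 5],
  [8, 0, 0, 0, 0, 8, 0, 0, 0, 10, 5, 0, 5, 0, 0, 5],
  [8, 0, 0, 3, 0, 8, 8, 0, 0, 0, 5, 0, 0, 0, 0, 5],
  [8, 0, 0, 7, 0, 8, 10, 0, 0, 6, 6, 0, 3, 0, 0, 6],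
  [8, 0, 0, 9, 0, 8, 11, 0, 0, 4, 4, 0, 2, 0, 0, 4],
  [9, 0, 0, 9, 0, 9, 11, 0, 0, 4, 5, 0, 2, 0, 0, 5],
  [12, 0, 0, 0, 0, 12, 0, 0, 0, 0, 12, 0, 0, 0, 0, 12],
  [12, 0, 0, 4, 0, 12, 2, 0, 0, 6, 0, 0, 3, 0, 0, 0],
  [12, 0, 0, 7, 0, 12, 10, 0, 0, 9, 0, 0, 11, 0, 0, 0],
  [12, 0, 0, 11, 0, 12, 12, 0, 0, 2, 1, 0, 1, 0, 0, 1]]

def P2 (c : List ℕ) : List ℕ := mulC c c
def P3 (c : List ℕ) : List ℕ := mulC c (P2 c)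
def P4 (c : List ℕ) : List ℕ := mulC c (P3 c)

def chkC (c : List ℕ) : Prop :=
  c = oneC ∨ (P3 c = oneC ∧ addC oneC (addC c (P2 c)) = zeroC) ∨
    c = negC ∨ P2 c = negC ∨ P3 c = negC ∨ P4 c = negC

instance (c : List ℕ) : Decidable (chkC c) := by unfold chkC; infer_instance

theorem one_mem : oneC ∈ L := by decide +kernel
theorem clos_a : ∀ c ∈ L, mulC ca c ∈ L := by decide +kernel
theorem clos_ai : ∀ c ∈ L, mulC cai c ∈ L := by decide +kernel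
theorem clos_b : ∀ c ∈ L, mulC cb c ∈ L := by decide +kernel
theorem clos_bi : ∀ c ∈ L, mulC cbi c ∈ L := by decide +kernel
theorem chk_all : ∀ c ∈ L, chkC c := by decide +kernel
theorem a_inv : mulC ca cai = oneC := by decide +kernel
theorem a_inv' : mulC cai ca = oneC := by decide +kernel
theorem b_inv : mulC cb cbi = oneC := by decide +kernel
theorem b_inv' : mulC cbi cb = oneC := by decide +kernel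
theorem a_p4 : P4 ca = negC := by decide +kernel
theorem b_p3 : P3 cb = negC := by decide +kernel

theorem toMat_mul (x y : List ℕ) : toMat (mulC x y) = toMat x * toMat y := by
  ext i j
  fin_cases i <;> fin_cases j <;>
    simp [toMat, mulC, g, Matrix.mul_apply, Fin.sum_univ_four, ZMod.natCast_mod]

theorem toMat_add (x y : List ℕ) : toMat (addC x y) = toMat x + toMat y := by
  ext i j
  fin_cases i <;> fin_cases j <;>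
    simp [toMat, addC, g, ZMod.natCast_mod]

theorem toMat_one : toMat oneC = 1 := by
  ext i j
  fin_cases i <;> fin_cases j <;> simp [toMat, oneC, g]

theorem toMat_zero : toMat zeroC = 0 := by
  ext i j
  fin_cases i <;> fin_cases j <;> simp [toMat, zeroC, g]

theorem toMat_neg : toMat negC = -1 := by
  ext i j
  fin_cases i <;> fin_cases j <;> simp [toMat, negC, g] <;> decide

end Cfsg.Agent.Helper6.L33D
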