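import Mathlib
import Cfsg.Agent.Lead.Coprime3
import Cfsg.Agent.Helper1.Supersolvable2
import Cfsg.Agent.Helper6.FrobNPC

/-!
Tools for groups in which the elements outside a normal subgroup have prime-power order and
maximal centralizers.
-/

set_option autoImplicit false

namespace Cfsg.Agent.Helper6.MaxCent

open scoped Pointwise

universe u

variable {G : Type u} [Group G]

/-- if `x` is a `p`-element outside `N`, `n ∈ N` commutes with `x` and `x * n` has prime power
order, then `n` is a `p`-element -/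
theorem pp {p : ℕ} (hp : p.Prime) (N : Subgroup G) (x n : G) (e : ℕ) (hx : x ^ (p ^ e) = 1)
    (hxN : x ∉ N) (hn : n ∈ N) (hc : Commute x n) (hpp : IsPrimePow (orderOf (x * n))) :
    ∃ k : ℕ, n ^ (p ^ k) = 1 := by
  obtain ⟨r, k, hr, hk, hrk⟩ := (isPrimePow_nat_iff _).mp hpp
  have h1 : x ^ (r ^ k) * n ^ (r ^ k) = 1 := by
    rw [← hc.mul_pow, hrk, pow_orderOf_eq_one]
  by_cases hrp : r = p
  · subst hrp
    refine ⟨k + e, ?_⟩
    have h2 : n ^ (r ^ k) = (x ^ (r ^ k))⁻¹ := eq_inv_of_mul_eq_one_right h1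
    rw [pow_add, pow_mul, h2, inv_pow, ← pow_mul, mul_comm, pow_mul, hx, one_pow, inv_one]
  · exfalso
    apply hxN
    have h2 : x ^ (r ^ k) ∈ N := by
      have h3 : x ^ (r ^ k) = (n ^ (r ^ k))⁻¹ := eq_inv_of_mul_eq_one_left h1
      rw [h3]; exact inv_mem (pow_mem hn _)
    have h4 : orderOf x ∣ p ^ e := orderOf_dvd_of_pow_eq_one hx
    obtain ⟨j, _, hj⟩ := (Nat.dvd_prime_pow hp).mp h4
    have hcop : (r ^ k).Coprime (orderOf x) := by
      rw [hj]
      exact Nat.Coprime.pow k j ((Nat.coprime_primes hr hp).mpr hrp)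
    obtain ⟨m, hm⟩ := exists_pow_eq_self_of_coprime hcop
    rw [← hm]; exact pow_mem h2 m

/-- an element outside `N` with `p`-th power in `N` and prime power order is a `p`-element -/
theorem good_pow {p : ℕ} (hp : p.Prime) (N : Subgroup G) (y : G) (hy : y ∉ N) (hyp : y ^ p ∈ N)
    (hpp : IsPrimePow (orderOf y)) : ∃ k : ℕ, y ^ (p ^ k) = 1 := by
  obtain ⟨r, k, hr, hk, hrk⟩ := (isPrimePow_nat_iff _).mp hpp
  by_cases hrp : r = p
  · subst hrp
    exact ⟨k, by rw [hrk, pow_orderOf_eq_one]⟩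
  · exfalso
    apply hy
    have hcop : p.Coprime (orderOf y) := by
      rw [← hrk]
      exact Nat.Coprime.pow_right k ((Nat.coprime_primes hp hr).mpr (Ne.symm hrp))
    obtain ⟨m, hm⟩ := exists_pow_eq_self_of_coprime hcop
    rw [← hm]; exact pow_mem hyp m

/-- product decomposition of a join when one factor normalizes the other -/
theorem mem_sup_norm (Q M : Subgroup G) (h : M ≤ Subgroup.normalizer (Q : Set G)) (x : G)
    (hx : x ∈ Q ⊔ M) : ∃ q ∈ Q, ∃ m ∈ M, x = q * m := by
  rw [Subgroup.sup_eq_closure] at hx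
  refine Subgroup.closure_induction (p := fun x _ => ∃ q ∈ Q, ∃ m ∈ M, x = q * m) ?_ ?_ ?_ ?_ hx
  · intro x hx
    rcases hx with hx | hx
    · exact ⟨x, hx, 1, one_mem _, by simp⟩
    · exact ⟨1, one_mem _, x, hx, by simp⟩
  · exact ⟨1, one_mem _, 1, one_mem _, by simp⟩
  · intro x y _ _ ihx ihy
    obtain ⟨q, hq, m, hm, rfl⟩ := ihx
    obtain ⟨q', hq', m', hm', rfl⟩ := ihy
    refine ⟨q * (m * q' * m⁻¹), mul_mem hq ((Subgroup.mem_normalizer_iff.mp (h hm) q').mp hq'),
      m * m', mul_mem hm hm', by group⟩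
  · intro x _ ih
    obtain ⟨q, hq, m, hm, rfl⟩ := ih
    refine ⟨m⁻¹ * q⁻¹ * m⁻¹⁻¹, (Subgroup.mem_normalizer_iff.mp (h (inv_mem hm)) q⁻¹).mp (inv_mem hq),
      m⁻¹, inv_mem hm, by group⟩

/-- a `p`-element acting without fixed points on a normal subgroup `F`: `p ∤ |F|` -/
theorem not_dvd_card_of_fpf [Finite G] {p : ℕ} [Fact p.Prime] (F : Subgroup G) [F.Normal] (x : G)
    (e : ℕ) (hx : x ^ (p ^ e) = 1) (hF : F ⊓ Subgroup.centralizer {x} = ⊥) :
    ¬ p ∣ Nat.card F := by
  let φ : (Subgroup.zpowers x) →* MulAut F :=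
    (MulAut.conjNormal (H := F)).comp (Subgroup.zpowers x).subtype
  letI : MulAction (Subgroup.zpowers x) F := MulAction.compHom F φ
  have hA : IsPGroup p (Subgroup.zpowers x) := by
    apply IsPGroup.of_card (n := (Nat.card (Subgroup.zpowers x)).factorization p)
    have h4 : orderOf x ∣ p ^ e := orderOf_dvd_of_pow_eq_one hx
    obtain ⟨j, _, hj⟩ := (Nat.dvd_prime_pow (Fact.out : p.Prime)).mp h4
    rw [Nat.card_zpowers, hj, Nat.Prime.factorization_pow (Fact.out : p.Prime)]
    simp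
  have h1 := hA.card_modEq_card_fixedPoints (α := F)
  have h2 : Nat.card (MulAction.fixedPoints (Subgroup.zpowers x) F) = 1 := by
    rw [Nat.card_eq_one_iff_unique]
    refine ⟨⟨?_⟩, ⟨⟨1, fun a => ?_⟩⟩⟩
    · rintro ⟨f, hf⟩ ⟨f', hf'⟩
      have key : ∀ f : F, f ∈ MulAction.fixedPoints (Subgroup.zpowers x) F → f = 1 := by
        intro f hf
        have h3 := hf ⟨x, Subgroup.mem_zpowers x⟩
        have h4 : (MulAut.conjNormal (H := F) x) f = f := h3
        have h5 : x * (f : G) * x⁻¹ = f := by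
          rw [← MulAut.conjNormal_apply, h4]
        have h6 : (f : G) ∈ F ⊓ Subgroup.centralizer {x} := by
          refine Subgroup.mem_inf.mpr ⟨f.2, ?_⟩
          rw [Subgroup.mem_centralizer_iff]
          intro z hz
          rw [Set.mem_singleton_iff] at hz
          subst hz
          calc z * (f : G) = z * f * z⁻¹ * z := by group
            _ = f * z := by rw [h5]
        rw [hF, Subgroup.mem_bot] at h6
        exact Subtype.ext h6
      exact Subtype.ext ((key f hf).trans (key f' hf').symm)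
    · show φ a 1 = 1
      exact map_one _
  intro hdvd
  rw [h2] at h1
  have h3 : Nat.card F % p = 0 := Nat.mod_eq_zero_of_dvd hdvd
  have h4 : Nat.card F % p = 1 % p := h1
  have hp2 := (Fact.out : p.Prime).two_le
  rw [h3, Nat.mod_eq_of_lt (by omega)] at h4
  exact absurd h4 (by norm_num)

/-- **fixed-point-free lemma**: if `M` is a maximal subgroup centralizing the `p`-element `x` and
`x` has no fixed points on the normal subgroup `F`, then `F` is a `q`-group, hence solvable. -/
theorem fpf_solvable [Finite G] {p : ℕ} [Fact p.Prime] (F M : Subgroup G) [F.Normal]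
    (hM : IsCoatom M) (x : G) (hxM : M ≤ Subgroup.centralizer {x}) (e : ℕ) (hx : x ^ (p ^ e) = 1)
    (hF : F ⊓ Subgroup.centralizer {x} = ⊥) : Group.IsSolvable F := by
  have hpF := not_dvd_card_of_fpf F x e hx hF
  have hAF : Subgroup.zpowers x ≤ Subgroup.normalizer (F : Set G) := by
    rw [Subgroup.normalizer_eq_top]; exact le_top
  have hcardA : Nat.card (Subgroup.zpowers x) ∣ p ^ e := by
    rw [Nat.card_zpowers]; exact orderOf_dvd_of_pow_eq_one hx
  have hcop : (Nat.card (Subgroup.zpowers x)).Coprime (Nat.card F) := by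
    apply Nat.Coprime.coprime_dvd_left hcardA
    exact Nat.Coprime.pow_left e ((Nat.Prime.coprime_iff_not_dvd (Fact.out : p.Prime)).mpr hpF)
  have hsolvA : Group.IsSolvable (Subgroup.zpowers x) := by
    haveI : IsCyclic (Subgroup.zpowers x) := Subgroup.isCyclic_zpowers x
    haveI hmc : IsMulCommutative (Subgroup.zpowers x) := IsCyclic.isMulCommutative
    exact Group.isSolvable_of_comm (fun a b => hmc.is_comm.comm a b)
  have hFM : F ⊓ M = ⊥ := by
    rw [eq_bot_iff, ← hF]; exact inf_le_inf_left F hxM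
  by_cases hF1 : Nat.card F = 1
  · haveI : Subsingleton F := (Nat.card_eq_one_iff_unique.mp hF1).1
    infer_instance
  obtain ⟨q, hq, hqF⟩ := Nat.exists_prime_and_dvd hF1
  haveI := Fact.mk hq
  obtain ⟨Q, hQA⟩ := Cfsg.Agent.Lead.coprime_sylow_exists (Subgroup.zpowers x) F hAF hcop
    (Or.inl hsolvA) q
  set Q' : Subgroup G := (Q : Subgroup F).map F.subtype with hQ'
  have hQ'F : Q' ≤ F := Subgroup.map_subtype_le _
  -- `M` normalizes `Q'`
  have hMQ : M ≤ Subgroup.normalizer (Q' : Set G) := by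
    intro m hm
    have hm1 : m ∈ Subgroup.normalizer (F : Set G) := by
      rw [Subgroup.normalizer_eq_top]; trivial
    have hmem := Cfsg.Agent.Lead.sylSet_conj_mem q F m hm1 Q'
      (Cfsg.Agent.Lead.sylow_map_mem_sylSet q F Q)
    obtain ⟨Q₂, hQ₂⟩ := Cfsg.Agent.Lead.exists_sylow_of_mem_sylSet q F _ hmem
    have hA2 : Subgroup.zpowers x ≤
        Subgroup.normalizer (((Q₂ : Subgroup F).map F.subtype : Subgroup G) : Set G) := by
      rw [hQ₂]
      intro a ha
      rw [← Cfsg.Agent.Lead.conj_smul_eq_self_iff, smul_smul, ← map_mul]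
      have hcomm : a * m = m * a := by
        have hmx : m ∈ Subgroup.centralizer {x} := hxM hm
        obtain ⟨i, rfl⟩ := Subgroup.mem_zpowers_iff.mp ha
        have h1 : x * m = m * x := (Subgroup.mem_centralizer_iff.mp hmx x rfl)
        exact ((Commute.zpow_left (h1 : Commute x m) i)).eq
      rw [hcomm, map_mul, ← smul_smul]
      rw [(Cfsg.Agent.Lead.conj_smul_eq_self_iff a Q').mpr (hQA ha)]
    obtain ⟨c, hcA, hc⟩ := Cfsg.Agent.Lead.coprime_sylow_conj (Subgroup.zpowers x) F hAF hcop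
      (Or.inl hsolvA) q Q Q₂ hQA hA2
    have hc1 : c = 1 := by
      have h1 : (c : G) ∈ F ⊓ Subgroup.centralizer {x} := by
        refine Subgroup.mem_inf.mpr ⟨c.2, ?_⟩
        rw [Subgroup.mem_centralizer_iff]
        intro z hz
        rw [Set.mem_singleton_iff] at hz
        subst hz
        exact Subgroup.mem_centralizer_iff.mp hcA z (Subgroup.mem_zpowers z)
      rw [hF, Subgroup.mem_bot] at h1
      exact Subtype.ext h1
    rw [hc1, map_one, one_smul] at hc
    rw [← Cfsg.Agent.Lead.conj_smul_eq_self_iff, ← hQ₂, ← hc]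
  -- `Q' ⊔ M = ⊤`
  have hQbot : (Q : Subgroup F) ≠ ⊥ := Q.ne_bot_of_dvd_card hqF
  have hsup : Q' ⊔ M = ⊤ := by
    by_contra hne
    have h1 : Q' ⊔ M = M := by
      by_contra h2
      exact hne (hM.2 _ (lt_of_le_of_ne le_sup_right (Ne.symm h2)))
    have h3 : Q' ≤ F ⊓ M := le_inf hQ'F (by rw [← h1]; exact le_sup_left)
    rw [hFM, le_bot_iff] at h3
    apply hQbot
    rw [hQ'] at h3
    exact (Subgroup.map_eq_bot_iff_of_injective _ F.subtype_injective).mp h3
  -- `F ≤ Q'`
  have hFQ : F ≤ Q' := by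
    intro f hf
    obtain ⟨q₀, hq₀, m, hm, rfl⟩ := mem_sup_norm Q' M hMQ f (by rw [hsup]; trivial)
    have h1 : m ∈ F ⊓ M := by
      refine Subgroup.mem_inf.mpr ⟨?_, hm⟩
      have : m = q₀⁻¹ * (q₀ * m) := by group
      rw [this]; exact mul_mem (inv_mem (hQ'F hq₀)) hf
    rw [hFM, Subgroup.mem_bot] at h1
    rw [h1, mul_one]; exact hq₀
  have hFp : IsPGroup q F := by
    intro f
    obtain ⟨f', hf', hff⟩ := Subgroup.mem_map.mp (hFQ f.2)
    have h1 : f' = f := Subtype.ext hff
    obtain ⟨k, hk⟩ := Q.isPGroup' ⟨f', hf'⟩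
    refine ⟨k, ?_⟩
    rw [← h1]
    exact congrArg Subtype.val hk
  haveI : Group.IsNilpotent F := hFp.isNilpotent
  exact IsNilpotent.to_isSolvable

/-- `C_N(y)` is a `p`-group when `y ∉ N` is a `p`-element -/
theorem cent_isPGroup {p : ℕ} [Fact p.Prime] (N : Subgroup G)
    (h : ∀ x : G, x ∉ N → IsPrimePow (orderOf x) ∧ IsCoatom (Subgroup.centralizer ({x} : Set G)))
    (y : G) (hy : y ∉ N) (k : ℕ) (hyk : y ^ (p ^ k) = 1) :
    IsPGroup p (N ⊓ Subgroup.centralizer ({y} : Set G) : Subgroup G) := by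
  intro n
  obtain ⟨hnN, hnC⟩ := Subgroup.mem_inf.mp n.2
  have hc : Commute y (n : G) := Subgroup.mem_centralizer_iff.mp hnC y rfl
  have hyn : y * (n : G) ∉ N := by
    intro h1
    apply hy
    have : y = y * (n : G) * (n : G)⁻¹ := by group
    rw [this]; exact mul_mem h1 (inv_mem hnN)
  obtain ⟨j, hj⟩ := pp (Fact.out : p.Prime) N y n k hyk hy hnN hc (h _ hyn).1
  exact ⟨j, Subtype.ext hj⟩

/-- case (a): `C_N(y)` normal in `G` -/
theorem caseA [Finite G] (N : Subgroup G) [N.Normal]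
    (h : ∀ x : G, x ∉ N → IsPrimePow (orderOf x) ∧ IsCoatom (Subgroup.centralizer ({x} : Set G)))
    {p : ℕ} [Fact p.Prime] (y : G) (hy : y ∉ N) (k : ℕ) (hyk : y ^ (p ^ k) = 1)
    (hnorm : (N ⊓ Subgroup.centralizer ({y} : Set G)).Normal) : Group.IsSolvable N := by
  have hPp := cent_isPGroup N h y hy k hyk
  have hPN : N ⊓ Subgroup.centralizer ({y} : Set G) ≤ N := inf_le_left
  have hM := (h y hy).2
  have hπy : (QuotientGroup.mk' (N ⊓ Subgroup.centralizer ({y} : Set G)) y) ^ (p ^ k) = 1 := by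
    rw [← map_pow, hyk, map_one]
  have hMD : Subgroup.centralizer ({y} : Set G) ≤
      (Subgroup.centralizer
        ({QuotientGroup.mk' (N ⊓ Subgroup.centralizer ({y} : Set G)) y} : Set _)).comap
        (QuotientGroup.mk' (N ⊓ Subgroup.centralizer ({y} : Set G))) := by
    intro m hm
    rw [Subgroup.mem_comap, Subgroup.mem_centralizer_iff]
    intro z hz
    rw [Set.mem_singleton_iff] at hz
    subst hz
    rw [← map_mul, ← map_mul, Subgroup.mem_centralizer_iff.mp hm y rfl]
  haveI : Group.IsSolvable (N ⊓ Subgroup.centralizer ({y} : Set G) : Subgroup G) := by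
    haveI := hPp.isNilpotent
    exact IsNilpotent.to_isSolvable
  by_cases hD : (Subgroup.centralizer
        ({QuotientGroup.mk' (N ⊓ Subgroup.centralizer ({y} : Set G)) y} : Set _)).comap
        (QuotientGroup.mk' (N ⊓ Subgroup.centralizer ({y} : Set G))) = Subgroup.centralizer ({y} : Set G)
  · -- fixed-point-free case
    haveI hFn : (N.map (QuotientGroup.mk' (N ⊓ Subgroup.centralizer ({y} : Set G)))).Normal :=
      Subgroup.Normal.map inferInstance _ (QuotientGroup.mk'_surjective _)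
    have hMc := Cfsg.Agent.Helper1.isCoatom_map_mk (N ⊓ Subgroup.centralizer ({y} : Set G))
      (Subgroup.centralizer ({y} : Set G)) hM inf_le_right
    have hxM : (Subgroup.centralizer ({y} : Set G)).map
        (QuotientGroup.mk' (N ⊓ Subgroup.centralizer ({y} : Set G))) ≤
        Subgroup.centralizer
          ({QuotientGroup.mk' (N ⊓ Subgroup.centralizer ({y} : Set G)) y} : Set _) := by
      rintro _ ⟨m, hm, rfl⟩
      exact hMD hm
    have hF : N.map (QuotientGroup.mk' (N ⊓ Subgroup.centralizer ({y} : Set G))) ⊓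
        Subgroup.centralizer
          ({QuotientGroup.mk' (N ⊓ Subgroup.centralizer ({y} : Set G)) y} : Set _) = ⊥ := by
      rw [eq_bot_iff]
      rintro g ⟨⟨n, hn, rfl⟩, hg2⟩
      have h1 : n ∈ Subgroup.centralizer ({y} : Set G) := by
        rw [← hD]; exact hg2
      rw [Subgroup.mem_bot]
      exact (QuotientGroup.eq_one_iff n).mpr (Subgroup.mem_inf.mpr ⟨hn, h1⟩)
    have hsolvF := fpf_solvable (N.map (QuotientGroup.mk' (N ⊓ Subgroup.centralizer ({y} : Set G))))
      _ hMc _ hxM k hπy hF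
    refine Group.isSolvable_of_ker_le_range (Subgroup.inclusion hPN)
      ((QuotientGroup.mk' (N ⊓ Subgroup.centralizer ({y} : Set G))).subgroupMap N) ?_
    intro n hn
    rw [MonoidHom.mem_ker] at hn
    have h1 : QuotientGroup.mk' (N ⊓ Subgroup.centralizer ({y} : Set G)) (n : G) = 1 :=
      congrArg Subtype.val hn
    have h2 : (n : G) ∈ N ⊓ Subgroup.centralizer ({y} : Set G) := (QuotientGroup.eq_one_iff _).mp h1
    exact ⟨⟨n, h2⟩, Subtype.ext rfl⟩
  · -- central case: `N` is a `p`-group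
    have hDtop : (Subgroup.centralizer
        ({QuotientGroup.mk' (N ⊓ Subgroup.centralizer ({y} : Set G)) y} : Set _)).comap
        (QuotientGroup.mk' (N ⊓ Subgroup.centralizer ({y} : Set G))) = ⊤ :=
      hM.2 _ (lt_of_le_of_ne hMD (Ne.symm hD))
    have hNp : IsPGroup p N := by
      intro n
      have hx' : QuotientGroup.mk' (N ⊓ Subgroup.centralizer ({y} : Set G)) y ∉
          N.map (QuotientGroup.mk' (N ⊓ Subgroup.centralizer ({y} : Set G))) := by
        rintro ⟨n', hn', hn'y⟩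
        apply hy
        have h1 : n'⁻¹ * y ∈ N ⊓ Subgroup.centralizer ({y} : Set G) := QuotientGroup.eq.mp hn'y
        have : y = n' * (n'⁻¹ * y) := by group
        rw [this]; exact mul_mem hn' (hPN h1)
      have hc : Commute (QuotientGroup.mk' (N ⊓ Subgroup.centralizer ({y} : Set G)) y)
          (QuotientGroup.mk' (N ⊓ Subgroup.centralizer ({y} : Set G)) (n : G)) := by
        have h1 : (n : G) ∈ (Subgroup.centralizer
          ({QuotientGroup.mk' (N ⊓ Subgroup.centralizer ({y} : Set G)) y} : Set _)).comap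
          (QuotientGroup.mk' (N ⊓ Subgroup.centralizer ({y} : Set G))) := by rw [hDtop]; trivial
        exact Subgroup.mem_centralizer_iff.mp h1 _ rfl
      have hyn : y * (n : G) ∉ N := by
        intro h1
        apply hy
        have : y = y * (n : G) * (n : G)⁻¹ := by group
        rw [this]; exact mul_mem h1 (inv_mem n.2)
      have hpp : IsPrimePow (orderOf (QuotientGroup.mk' (N ⊓ Subgroup.centralizer ({y} : Set G)) y *
          QuotientGroup.mk' (N ⊓ Subgroup.centralizer ({y} : Set G)) (n : G))) := by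
        rw [← map_mul]
        refine (h _ hyn).1.dvd (orderOf_map_dvd _ _) ?_
        intro h1
        rw [orderOf_eq_one_iff] at h1
        exact hyn (hPN ((QuotientGroup.eq_one_iff _).mp h1))
      obtain ⟨j, hj⟩ := pp (Fact.out : p.Prime) _ _ _ k hπy hx' (Subgroup.mem_map_of_mem _ n.2) hc hpp
      rw [← map_pow] at hj
      have h2 : (n : G) ^ (p ^ j) ∈ N ⊓ Subgroup.centralizer ({y} : Set G) :=
        (QuotientGroup.eq_one_iff _).mp hj
      obtain ⟨i, hi⟩ := hPp ⟨_, h2⟩
      refine ⟨j + i, Subtype.ext ?_⟩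
      have h3 : ((n : G) ^ (p ^ j)) ^ (p ^ i) = 1 := congrArg Subtype.val hi
      rw [Subgroup.coe_pow, pow_add, pow_mul, h3]; rfl
    haveI := hNp.isNilpotent
    exact IsNilpotent.to_isSolvable

/-- a `p`-group is a Sylow `p`-subgroup of itself -/
theorem self_mem_sylSet [Finite G] {p : ℕ} [Fact p.Prime] (P : Subgroup G) (hP : IsPGroup p P) :
    P ∈ Cfsg.Agent.Lead.sylSet p P := by
  refine ⟨le_rfl, ?_⟩
  obtain ⟨n, hn⟩ := IsPGroup.iff_card.mp hP
  rw [hn, Nat.Prime.factorization_pow (Fact.out : p.Prime)]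
  simp

/-- case (b): all `C_N(x m)` are self-normalizing in `N` -/
theorem caseB [Finite G] (N : Subgroup G) [N.Normal]
    (h : ∀ x : G, x ∉ N → IsPrimePow (orderOf x) ∧ IsCoatom (Subgroup.centralizer ({x} : Set G)))
    {p : ℕ} [Fact p.Prime] (x : G) (hx : x ∉ N) (hxp : x ^ p ∈ N) (k : ℕ) (hxk : x ^ (p ^ k) = 1)
    (hb : ∀ m ∈ N, Subgroup.normalizer ((N ⊓ Subgroup.centralizer ({x * m} : Set G) : Subgroup G) : Set G)
      = Subgroup.centralizer ({x * m} : Set G)) : Group.IsSolvable N := by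
  have hp := (Fact.out : p.Prime)
  -- Sylow property
  have hsyl : ∀ m ∈ N, (N ⊓ Subgroup.centralizer ({x * m} : Set G) : Subgroup G) ∈
      Cfsg.Agent.Lead.sylSet p N := by
    intro m hm
    have hy : x * m ∉ N := by
      intro h1
      apply hx
      have : x = x * m * m⁻¹ := by group
      rw [this]; exact mul_mem h1 (inv_mem hm)
    have hyp : (x * m) ^ p ∈ N := by
      rw [← QuotientGroup.eq_one_iff, QuotientGroup.mk_pow, QuotientGroup.mk_mul,
        (QuotientGroup.eq_one_iff m).mpr hm, mul_one, ← QuotientGroup.mk_pow]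
      exact (QuotientGroup.eq_one_iff _).mpr hxp
    obtain ⟨j, hj⟩ := good_pow hp N (x * m) hy hyp (h _ hy).1
    have hPp := cent_isPGroup N h (x * m) hy j hj
    apply Cfsg.Agent.Lead.mem_sylSet_of_mem_sylSet_normalizer p N _ inf_le_left
    rw [hb m hm]
    exact self_mem_sylSet _ hPp
  have hb0 : Subgroup.normalizer ((N ⊓ Subgroup.centralizer ({x} : Set G) : Subgroup G) : Set G)
      = Subgroup.centralizer ({x} : Set G) := by
    have := hb 1 (one_mem _)
    rwa [mul_one] at this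
  have hsyl0 : (N ⊓ Subgroup.centralizer ({x} : Set G) : Subgroup G) ∈ Cfsg.Agent.Lead.sylSet p N := by
    have := hsyl 1 (one_mem _)
    rwa [mul_one] at this
  have hP0p : IsPGroup p (N ⊓ Subgroup.centralizer ({x} : Set G) : Subgroup G) :=
    cent_isPGroup N h x hx k hxk
  -- every element of `xN` is conjugate into `x Z(P₀)`
  have hex : ∀ m : N, ∃ a : N, ∃ z : ((N ⊓ Subgroup.centralizer ({x} : Set G)) ⊓
      Subgroup.centralizer ((N ⊓ Subgroup.centralizer ({x} : Set G) : Subgroup G) : Set G) : Subgroup G),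
      x * (m : G) = (a : G) * (x * (z : G)) * (a : G)⁻¹ := by
    intro m
    obtain ⟨n, hn, hconj⟩ := Cfsg.Agent.Lead.sylSet_trans p N _ (hsyl m m.2) _ hsyl0
    have hzN : x⁻¹ * (n * (x * (m : G)) * n⁻¹) ∈ N := by
      have h1 : x⁻¹ * (n * (x * (m : G)) * n⁻¹) = (x⁻¹ * n * x⁻¹⁻¹) * (m * n⁻¹) := by group
      rw [h1]
      exact mul_mem (Subgroup.Normal.conj_mem inferInstance n hn x⁻¹) (mul_mem m.2 (inv_mem hn))
    have hzC : x⁻¹ * (n * (x * (m : G)) * n⁻¹) ∈
        Subgroup.centralizer ((N ⊓ Subgroup.centralizer ({x} : Set G) : Subgroup G) : Set G) := by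
      rw [Subgroup.mem_centralizer_iff]
      intro c hc
      have hcx : x * c = c * x := Subgroup.mem_centralizer_iff.mp (Subgroup.mem_inf.mp hc).2 x rfl
      have hc2 : c ∈ MulAut.conj n • (N ⊓ Subgroup.centralizer ({x * (m : G)} : Set G) : Subgroup G) := by
        rw [hconj]; exact hc
      rw [Cfsg.Agent.Lead.mem_conj_smul] at hc2
      have hcy : x * (m : G) * (n⁻¹ * c * n) = n⁻¹ * c * n * (x * (m : G)) :=
        Subgroup.mem_centralizer_iff.mp (Subgroup.mem_inf.mp hc2).2 _ rfl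
      have hcy' : c * (n * (x * (m : G)) * n⁻¹) = n * (x * (m : G)) * n⁻¹ * c := by
        calc c * (n * (x * (m : G)) * n⁻¹) = n * (n⁻¹ * c * n * (x * (m : G))) * n⁻¹ := by group
          _ = n * (x * (m : G) * (n⁻¹ * c * n)) * n⁻¹ := by rw [hcy]
          _ = _ := by group
      have hcx' : c * x⁻¹ = x⁻¹ * c := by
        calc c * x⁻¹ = x⁻¹ * (x * c) * x⁻¹ := by group
          _ = x⁻¹ * (c * x) * x⁻¹ := by rw [hcx]
          _ = _ := by group
      calc c * (x⁻¹ * (n * (x * (m : G)) * n⁻¹)) = (c * x⁻¹) * (n * (x * (m : G)) * n⁻¹) := by group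
        _ = x⁻¹ * (c * (n * (x * (m : G)) * n⁻¹)) := by rw [hcx']; group
        _ = x⁻¹ * (n * (x * (m : G)) * n⁻¹) * c := by rw [hcy']; group
    have hzP : x⁻¹ * (n * (x * (m : G)) * n⁻¹) ∈ N ⊓ Subgroup.centralizer ({x} : Set G) := by
      have h1 : x⁻¹ * (n * (x * (m : G)) * n⁻¹) ∈ N ⊓ Subgroup.normalizer
          ((N ⊓ Subgroup.centralizer ({x} : Set G) : Subgroup G) : Set G) :=
        Subgroup.mem_inf.mpr ⟨hzN, (Subgroup.centralizer_le_normalizer _) hzC⟩
      rwa [hb0] at h1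
    refine ⟨⟨n⁻¹, inv_mem hn⟩, ⟨_, Subgroup.mem_inf.mpr ⟨hzP, hzC⟩⟩, ?_⟩
    show x * (m : G) = n⁻¹ * (x * (x⁻¹ * (n * (x * (m : G)) * n⁻¹))) * n⁻¹⁻¹
    group
  choose a z hz using hex
  -- counting: `P₀` is abelian
  have hinj : Function.Injective (fun t : N × (N ⊓ Subgroup.centralizer ({x} : Set G) : Subgroup G) =>
      ((a t.1 * ⟨(t.2 : G), (Subgroup.mem_inf.mp t.2.2).1⟩, z t.1) :
        N × ((N ⊓ Subgroup.centralizer ({x} : Set G)) ⊓
      Subgroup.centralizer ((N ⊓ Subgroup.centralizer ({x} : Set G) : Subgroup G) : Set G) : Subgroup G))) := by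
    rintro ⟨m, c⟩ ⟨m', c'⟩ heq
    have h1 : (a m : G) * (c : G) = (a m' : G) * (c' : G) :=
      congrArg (fun t => ((t.1 : N) : G)) heq
    have h2 : z m = z m' := congrArg Prod.snd heq
    have hd : (c : G) * (c' : G)⁻¹ ∈ N ⊓ Subgroup.centralizer ({x} : Set G) :=
      mul_mem c.2 (inv_mem c'.2)
    have hdx : x * ((c : G) * (c' : G)⁻¹) = (c : G) * (c' : G)⁻¹ * x :=
      Subgroup.mem_centralizer_iff.mp (Subgroup.mem_inf.mp hd).2 x rfl
    have hdz : ((c : G) * (c' : G)⁻¹) * (z m : G) = (z m : G) * ((c : G) * (c' : G)⁻¹) :=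
      Subgroup.mem_centralizer_iff.mp (Subgroup.mem_inf.mp (z m).2).2 _ hd
    have ha' : (a m' : G) = (a m : G) * ((c : G) * (c' : G)⁻¹) := by
      calc (a m' : G) = (a m' : G) * (c' : G) * (c' : G)⁻¹ := by group
        _ = (a m : G) * (c : G) * (c' : G)⁻¹ := by rw [h1]
        _ = _ := by group
    have hm : x * (m' : G) = x * (m : G) := by
      rw [hz m', hz m, ← h2, ha']
      have h3 : ((c : G) * (c' : G)⁻¹) * (x * (z m : G)) * ((c : G) * (c' : G)⁻¹)⁻¹ = x * (z m : G) := by
        calc ((c : G) * (c' : G)⁻¹) * (x * (z m : G)) * ((c : G) * (c' : G)⁻¹)⁻¹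
            = (((c : G) * (c' : G)⁻¹) * x) * (z m : G) * ((c : G) * (c' : G)⁻¹)⁻¹ := by group
          _ = x * (((c : G) * (c' : G)⁻¹) * (z m : G)) * ((c : G) * (c' : G)⁻¹)⁻¹ := by
              rw [← hdx]; group
          _ = x * ((z m : G) * ((c : G) * (c' : G)⁻¹)) * ((c : G) * (c' : G)⁻¹)⁻¹ := by rw [hdz]
          _ = _ := by group
      calc (a m : G) * ((c : G) * (c' : G)⁻¹) * (x * (z m : G)) * ((a m : G) * ((c : G) * (c' : G)⁻¹))⁻¹
          = (a m : G) * (((c : G) * (c' : G)⁻¹) * (x * (z m : G)) * ((c : G) * (c' : G)⁻¹)⁻¹) * (a m : G)⁻¹ := by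
            group
        _ = _ := by rw [h3]
    have hmm : m' = m := Subtype.ext (mul_left_cancel hm)
    subst hmm
    have hcc : (c : G) = (c' : G) := mul_left_cancel h1
    exact Prod.ext rfl (Subtype.ext hcc)
  have hcard := Nat.card_le_card_of_injective _ hinj
  rw [Nat.card_prod, Nat.card_prod] at hcard
  have hle := Nat.le_of_mul_le_mul_left hcard Nat.card_pos
  have hZeq : ((N ⊓ Subgroup.centralizer ({x} : Set G)) ⊓
      Subgroup.centralizer ((N ⊓ Subgroup.centralizer ({x} : Set G) : Subgroup G) : Set G) : Subgroup G)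
      = N ⊓ Subgroup.centralizer ({x} : Set G) :=
    Subgroup.eq_of_le_of_card_ge inf_le_left hle
  have hab : (N ⊓ Subgroup.centralizer ({x} : Set G) : Subgroup G) ≤
      Subgroup.centralizer ((N ⊓ Subgroup.centralizer ({x} : Set G) : Subgroup G) : Set G) := by
    rw [← hZeq]; exact inf_le_right.trans (by rw [hZeq])
  -- Burnside
  obtain ⟨S, hS⟩ := Cfsg.Agent.Lead.exists_sylow_of_mem_sylSet p N _ hsyl0
  have hSmem : ∀ g : N, g ∈ (S : Subgroup N) ↔ (g : G) ∈ N ⊓ Subgroup.centralizer ({x} : Set G) := by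
    intro g
    rw [← hS]
    constructor
    · intro hg; exact Subgroup.mem_map_of_mem _ hg
    · rintro ⟨g', hg', hgg⟩
      have : g' = g := Subtype.ext hgg
      rwa [← this]
  have hSeq : (S : Subgroup N) = (N ⊓ Subgroup.centralizer ({x} : Set G) : Subgroup G).subgroupOf N := by
    ext g; rw [hSmem, Subgroup.mem_subgroupOf]
  have hNC : Subgroup.normalizer ((S : Subgroup N) : Set N) ≤ Subgroup.centralizer ((S : Subgroup N) : Set N) := by
    intro g hg
    rw [hSeq, ← Subgroup.subgroupOf_normalizer_eq inf_le_left, Subgroup.mem_subgroupOf, hb0] at hg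
    have hgP : (g : G) ∈ N ⊓ Subgroup.centralizer ({x} : Set G) := Subgroup.mem_inf.mpr ⟨g.2, hg⟩
    rw [Subgroup.mem_centralizer_iff]
    intro s hs
    have hs' := (hSmem s).mp hs
    exact Subtype.ext (Subgroup.mem_centralizer_iff.mp (hab hgP) _ hs')
  have hcomp := MonoidHom.ker_transferSylow_isComplement' S hNC
  have hcardF : ¬ p ∣ Nat.card (MonoidHom.transferSylow S hNC).ker := by
    have h1 := hcomp.card_mul_card
    have h2 := (S : Subgroup N).card_mul_index
    have h3 : Nat.card (MonoidHom.transferSylow S hNC).ker = (S : Subgroup N).index := by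
      have hpos : 0 < Nat.card (S : Subgroup N) := Nat.card_pos
      have : Nat.card (S : Subgroup N) * Nat.card (MonoidHom.transferSylow S hNC).ker
          = Nat.card (S : Subgroup N) * (S : Subgroup N).index := by rw [h2, ← h1, mul_comm]
      exact Nat.eq_of_mul_eq_mul_left hpos this
    rw [h3]; exact S.not_dvd_index
  have hFmem : ∀ g : N, g ∈ (MonoidHom.transferSylow S hNC).ker ↔ (orderOf (g : G)).Coprime p := by
    intro g
    constructor
    · intro hg
      have h1 : orderOf (⟨g, hg⟩ : (MonoidHom.transferSylow S hNC).ker) ∣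
          Nat.card (MonoidHom.transferSylow S hNC).ker := orderOf_dvd_natCard _
      rw [Subgroup.orderOf_mk, ← Subgroup.orderOf_coe] at h1
      exact Nat.Coprime.coprime_dvd_left h1 ((Nat.Prime.coprime_iff_not_dvd hp).mpr hcardF).symm
    · intro hg
      rw [MonoidHom.mem_ker]
      obtain ⟨j, hj⟩ := S.isPGroup' (MonoidHom.transferSylow S hNC g)
      apply Cfsg.Agent.Helper6.eq_one_of_pow_of_coprime hj
      have h1 : orderOf (MonoidHom.transferSylow S hNC g) ∣ orderOf g := orderOf_map_dvd _ g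
      rw [Subgroup.orderOf_coe] at hg
      exact Nat.Coprime.coprime_dvd_left h1 hg
  haveI hFn : ((MonoidHom.transferSylow S hNC).ker.map N.subtype).Normal := by
    constructor
    intro f hf g
    obtain ⟨f₀, hf₀, rfl⟩ := Subgroup.mem_map.mp hf
    have hconjN : g * (f₀ : G) * g⁻¹ ∈ N := Subgroup.Normal.conj_mem inferInstance _ f₀.2 g
    refine Subgroup.mem_map.mpr ⟨⟨_, hconjN⟩, ?_, rfl⟩
    rw [hFmem]
    have h1 : orderOf (g * (f₀ : G) * g⁻¹) = orderOf (f₀ : G) :=
      orderOf_injective (MulAut.conj g).toMonoidHom (MulAut.conj g).injective _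
    show (orderOf (g * (f₀ : G) * g⁻¹)).Coprime p
    rw [h1]
    exact (hFmem f₀).mp hf₀
  have hF : (MonoidHom.transferSylow S hNC).ker.map N.subtype ⊓ Subgroup.centralizer ({x} : Set G) = ⊥ := by
    rw [eq_bot_iff]
    rintro g ⟨⟨f₀, hf₀, rfl⟩, hg2⟩
    have h1 : (f₀ : G) ∈ N ⊓ Subgroup.centralizer ({x} : Set G) := Subgroup.mem_inf.mpr ⟨f₀.2, hg2⟩
    obtain ⟨j, hj⟩ := hP0p ⟨_, h1⟩
    have hj' : (f₀ : G) ^ (p ^ j) = 1 := congrArg Subtype.val hj
    rw [Subgroup.mem_bot]
    exact Cfsg.Agent.Helper6.eq_one_of_pow_of_coprime hj' ((hFmem f₀).mp hf₀)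
  have hsolvF := fpf_solvable ((MonoidHom.transferSylow S hNC).ker.map N.subtype)
    (Subgroup.centralizer ({x} : Set G)) (h x hx).2 x le_rfl k hxk hF
  haveI hsolvF₀ : Group.IsSolvable (MonoidHom.transferSylow S hNC).ker := by
    let f : (MonoidHom.transferSylow S hNC).ker →* ((MonoidHom.transferSylow S hNC).ker.map N.subtype) :=
      { toFun := fun g => ⟨(g : N), Subgroup.mem_map_of_mem _ g.2⟩
        map_one' := rfl
        map_mul' := fun _ _ => rfl }
    apply Group.isSolvable_of_isSolvable_injective (f := f)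
    intro g g' hgg
    have h0 := congrArg Subtype.val hgg
    have h1 : ((g : N) : G) = ((g' : N) : G) := h0
    exact Subtype.ext (Subtype.ext h1)
  haveI : Group.IsSolvable (S : Subgroup N) := by
    haveI := S.isPGroup'.isNilpotent
    exact IsNilpotent.to_isSolvable
  refine Group.isSolvable_of_ker_le_range ((MonoidHom.transferSylow S hNC).ker.subtype)
    (MonoidHom.transferSylow S hNC) ?_
  rw [Subgroup.range_subtype]

end Cfsg.Agent.Helper6.MaxCent
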