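import Mathlib
import Cfsg.Agent.S4262

/-!
Groups in which the centralizer of every non-central element is a maximal subgroup:
structure lemmas (continuing `Cfsg.Agent.S4262`).
-/

set_option autoImplicit false

namespace Cfsg.Agent.Helper6.MaxCent2

open Cfsg.Agent.S4262

universe u

variable {G : Type u} [Group G]

/-- a subgroup of prime index is maximal -/
theorem isCoatom_of_index_prime (H : Subgroup G) (hp : H.index.Prime) : IsCoatom H := by
  refine ⟨fun h => ?_, fun K hK => ?_⟩
  · rw [h, Subgroup.index_top] at hp; exact Nat.not_prime_one hp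
  · have h1 := Subgroup.relIndex_mul_index hK.le
    rcases (Nat.dvd_prime hp).mp ⟨H.relIndex K, by rw [← h1, mul_comm]⟩ with h2 | h2
    · exact Subgroup.index_eq_one.mp h2
    · exfalso
      rw [h2] at h1
      have h3 : H.relIndex K = 1 := Nat.eq_of_mul_eq_mul_right hp.pos (by rw [h1, one_mul])
      exact hK.not_ge (Subgroup.relIndex_eq_one.mp h3)

/-- if `C(y) = C(x)` for a `p`-element `x` and a `p'`-element `y`, then `C(x)` is abelian -/
theorem abelian_of_cent_eq [Finite G]
    (h : ∀ g : G, g ∉ Subgroup.center G → IsCoatom (Subgroup.centralizer ({g} : Set G)))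
    {p : ℕ} (hp : p.Prime) (x y : G) (hx : x ∉ Subgroup.center G) (hy : y ∉ Subgroup.center G)
    (e : ℕ) (hxe : x ^ (p ^ e) = 1) (hyp : (orderOf y).Coprime p)
    (heq : Subgroup.centralizer ({y} : Set G) = Subgroup.centralizer ({x} : Set G)) :
    ∀ a ∈ Subgroup.centralizer ({x} : Set G), ∀ b ∈ Subgroup.centralizer ({x} : Set G),
      a * b = b * a := by
  have key : ∀ c ∈ Subgroup.centralizer ({x} : Set G),
      c ∈ Subgroup.centralizer ((Subgroup.centralizer ({x} : Set G) : Subgroup G) : Set G) := by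
    intro c hc
    obtain ⟨k, c', hcop, hc1, hord, hkc, -⟩ := ppart hp c
    have hox : (orderOf x).Coprime (orderOf (c ^ (p ^ k))) := by
      have h1 : orderOf x ∣ p ^ e := orderOf_dvd_of_pow_eq_one hxe
      exact Nat.Coprime.coprime_dvd_left h1 (Nat.Coprime.pow_left e hord.symm)
    have hb := comm_of_coprime h x (c ^ (p ^ k)) hx (pow_mem hc _) hox
    have hoy : (orderOf y).Coprime (orderOf (c ^ c')) := by
      have h1 : orderOf (c ^ c') ∣ p ^ k := orderOf_dvd_of_pow_eq_one hc1
      exact Nat.Coprime.coprime_dvd_right h1 (Nat.Coprime.pow_right k hyp)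
    have ha := comm_of_coprime h y (c ^ c') hy (by rw [heq]; exact pow_mem hc _) hoy
    apply mem_of_pow_mem_coprime _ c c' (p ^ k) hcop
    · rw [Subgroup.mem_centralizer_iff]
      intro m hm
      exact (ha m (by rw [heq]; exact hm)).eq.symm
    · rw [Subgroup.mem_centralizer_iff]
      intro m hm
      exact (hb m hm).eq.symm
  intro a ha b hb
  exact (Subgroup.mem_centralizer_iff.mp (key b hb) a ha)

/-- in a non-abelian centralizer of a `p`-element, the `p'`-elements are central -/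
theorem mem_center_of_coprime [Finite G]
    (h : ∀ g : G, g ∉ Subgroup.center G → IsCoatom (Subgroup.centralizer ({g} : Set G)))
    {p : ℕ} (hp : p.Prime) (x : G) (hx : x ∉ Subgroup.center G)
    (e : ℕ) (hxe : x ^ (p ^ e) = 1)
    (hna : ¬ IsMulCommutative ↥(Subgroup.centralizer ({x} : Set G)))
    (m : G) (hm : m ∈ Subgroup.centralizer ({x} : Set G)) (hmp : (orderOf m).Coprime p) :
    m ∈ Subgroup.center G := by
  by_contra hmZ
  have hc : Commute x m := by
    rw [Subgroup.mem_centralizer_singleton_iff] at hm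
    exact hm.symm
  have hox : (orderOf x).Coprime (orderOf m) := by
    have h1 : orderOf x ∣ p ^ e := orderOf_dvd_of_pow_eq_one hxe
    exact Nat.Coprime.coprime_dvd_left h1 (Nat.Coprime.pow_left e hmp.symm)
  have he := cent_eq_of_coprime h x m hx hmZ hc hox
  have hab := abelian_of_cent_eq h hp x m hx hmZ e hxe hmp he.symm
  exact hna ⟨⟨fun a b => Subtype.ext (hab a a.2 b b.2)⟩⟩

/-- a non-abelian centralizer of a `p`-element is a `p`-group modulo the center -/
theorem exists_pow_mem_center [Finite G]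
    (h : ∀ g : G, g ∉ Subgroup.center G → IsCoatom (Subgroup.centralizer ({g} : Set G)))
    {p : ℕ} (hp : p.Prime) (x : G) (hx : x ∉ Subgroup.center G)
    (e : ℕ) (hxe : x ^ (p ^ e) = 1)
    (hna : ¬ IsMulCommutative ↥(Subgroup.centralizer ({x} : Set G)))
    (m : G) (hm : m ∈ Subgroup.centralizer ({x} : Set G)) :
    ∃ k : ℕ, m ^ (p ^ k) ∈ Subgroup.center G := by
  obtain ⟨k, c', hcop, hc1, hord, hkc, -⟩ := ppart hp m
  exact ⟨k, mem_center_of_coprime h hp x hx e hxe hna _ (pow_mem hm _) hord⟩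

/-- a non-abelian centralizer of a `p`-element contains a proper subgroup, normal in `G`,
containing the element and the center -/
theorem exists_normal [Finite G]
    (h : ∀ g : G, g ∉ Subgroup.center G → IsCoatom (Subgroup.centralizer ({g} : Set G)))
    {p : ℕ} (hp : p.Prime) (x : G) (hx : x ∉ Subgroup.center G)
    (e : ℕ) (hxe : x ^ (p ^ e) = 1)
    (hMab : ¬ IsMulCommutative ↥(Subgroup.centralizer ({x} : Set G))) :
    ∃ U : Subgroup G, U.Normal ∧ x ∈ U ∧ U ≤ Subgroup.centralizer ({x} : Set G) ∧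
      U ≠ Subgroup.centralizer ({x} : Set G) ∧ Subgroup.center G ≤ U := by
  classical
  haveI := Fact.mk hp
  have hM := h x hx
  have hP := quot_center_isPGroup h hp x hx e hxe
  haveI hMnil : Group.IsNilpotent ↥(Subgroup.centralizer ({x} : Set G)) := cent_nilpotent h x hx
  have hmemM : ∀ a : G, a ∈ Subgroup.centralizer ({x} : Set G) ↔ a * x = x * a :=
    fun a => Subgroup.mem_centralizer_singleton_iff
  have hZM : Subgroup.center G ≤ Subgroup.centralizer ({x} : Set G) := Subgroup.center_le_centralizer _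
  generalize hMdef : Subgroup.centralizer ({x} : Set G) = M at hM hMab hP hMnil hmemM hZM
  haveI : Nontrivial (↥M ⧸ Subgroup.center ↥M) := by
    by_contra hnt
    rw [not_nontrivial_iff_subsingleton] at hnt
    apply hMab
    refine ⟨⟨fun a b => ?_⟩⟩
    have h1 : (QuotientGroup.mk b : ↥M ⧸ Subgroup.center ↥M) = 1 := Subsingleton.elim _ _
    rw [QuotientGroup.eq_one_iff] at h1
    exact Subgroup.mem_center_iff.mp h1 a
  haveI := hP.center_nontrivial
  obtain ⟨⟨z, hz⟩, hz1⟩ := exists_ne (1 : Subgroup.center (↥M ⧸ Subgroup.center ↥M))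
  obtain ⟨t, rfl⟩ := QuotientGroup.mk_surjective z
  have htZ : t ∉ Subgroup.center ↥M := by
    intro ht
    apply hz1
    apply Subtype.ext
    exact (QuotientGroup.eq_one_iff t).mpr ht
  have hw : ∀ m : ↥M, (t * m)⁻¹ * (m * t) ∈ Subgroup.center ↥M := by
    intro m
    have h1 := Subgroup.mem_center_iff.mp hz (QuotientGroup.mk m)
    rw [← QuotientGroup.mk_mul, ← QuotientGroup.mk_mul] at h1
    exact QuotientGroup.eq.mp h1.symm
  have hw' : ∀ m ∈ M, ∀ u ∈ M, Commute (((t : G) * m)⁻¹ * (m * (t : G))) u := by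
    intro m hm u hu
    have h1 := Subgroup.mem_center_iff.mp (hw ⟨m, hm⟩) ⟨u, hu⟩
    have h2 := congrArg Subtype.val h1
    simp only [Subgroup.coe_mul, Subgroup.coe_inv] at h2
    exact h2.symm
  have htG : (t : G) ∉ Subgroup.center G := by
    intro ht
    apply htZ
    rw [Subgroup.mem_center_iff]
    intro m
    apply Subtype.ext
    exact Subgroup.mem_center_iff.mp ht (m : G)
  have hM' := h (t : G) htG
  haveI hM'nil : Group.IsNilpotent ↥(Subgroup.centralizer ({(t : G)} : Set G)) :=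
    cent_nilpotent h _ htG
  have hxt : x ∈ Subgroup.centralizer ({(t : G)} : Set G) := by
    rw [Subgroup.mem_centralizer_singleton_iff]
    exact ((hmemM (t : G)).mp t.2).symm
  have hxM : x ∈ M := (hmemM x).mpr rfl
  have hmem' : ∀ a : G, a ∈ Subgroup.centralizer ({(t : G)} : Set G) ↔ a * (t : G) = (t : G) * a :=
    fun a => Subgroup.mem_centralizer_singleton_iff
  have hZM' : Subgroup.center G ≤ Subgroup.centralizer ({(t : G)} : Set G) :=
    Subgroup.center_le_centralizer _
  generalize hM'def : Subgroup.centralizer ({(t : G)} : Set G) = M' at hM' hM'nil hxt hmem' hZM'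
  have hconj : ∀ m ∈ M, ∀ u ∈ M ⊓ M', m * u * m⁻¹ ∈ M ⊓ M' := by
    intro m hm u hu
    obtain ⟨hu1, hu2⟩ := Subgroup.mem_inf.mp hu
    refine Subgroup.mem_inf.mpr ⟨mul_mem (mul_mem hm hu1) (inv_mem hm), ?_⟩
    rw [hmem']
    have hwc := hw' m hm u hu1
    have htc : Commute (t : G) u := ((hmem' u).mp hu2).symm
    have hkey : m⁻¹ * (t : G) * m = (t : G) * (((t : G) * m)⁻¹ * (m * (t : G)))⁻¹ := by group
    have h3 : Commute (m⁻¹ * (t : G) * m) u := by
      rw [hkey]; exact htc.mul_left hwc.inv_left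
    calc m * u * m⁻¹ * (t : G) = m * (u * (m⁻¹ * (t : G) * m)) * m⁻¹ := by group
      _ = m * ((m⁻¹ * (t : G) * m) * u) * m⁻¹ := by rw [h3.eq]
      _ = (t : G) * (m * u * m⁻¹) := by group
  have hMN : M ≤ Subgroup.normalizer ((M ⊓ M' : Subgroup G) : Set G) := by
    intro m hm
    rw [Subgroup.mem_normalizer_iff]
    intro u
    constructor
    · exact hconj m hm u
    · intro hu
      have h1 := hconj m⁻¹ (inv_mem hm) _ hu
      have e1 : m⁻¹ * (m * u * m⁻¹) * m⁻¹⁻¹ = u := by group
      rwa [e1] at h1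
  have hUM' : ¬ (M' ≤ M ⊓ M') := by
    intro hle
    have hle' : M' ≤ M := le_trans hle inf_le_left
    rcases hM'.le_iff.mp hle' with h1 | h1
    · exact hM.1 h1
    · apply htZ
      rw [Subgroup.mem_center_iff]
      intro m
      have hm : (m : G) ∈ M' := by rw [← h1]; exact m.2
      rw [hmem'] at hm
      exact Subtype.ext hm
  have hnc := Group.normalizerCondition_of_isNilpotent (G := ↥M')
  have hlt : (M ⊓ M').subgroupOf M' < ⊤ := by
    rw [lt_top_iff_ne_top, Ne, Subgroup.subgroupOf_eq_top]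
    exact hUM'
  obtain ⟨g', hg'N, hg'U⟩ := SetLike.exists_of_lt (hnc _ hlt)
  rw [← Subgroup.subgroupOf_normalizer_eq (inf_le_right : M ⊓ M' ≤ M'),
    Subgroup.mem_subgroupOf] at hg'N
  rw [Subgroup.mem_subgroupOf] at hg'U
  have hg'M : (g' : G) ∉ M := fun hgm => hg'U (Subgroup.mem_inf.mpr ⟨hgm, g'.2⟩)
  have hNtop : Subgroup.normalizer ((M ⊓ M' : Subgroup G) : Set G) = ⊤ :=
    hM.2 _ (lt_of_le_of_ne hMN (fun heq => hg'M (by rw [heq]; exact hg'N)))
  refine ⟨M ⊓ M', Subgroup.normalizer_eq_top_iff.mp hNtop, Subgroup.mem_inf.mpr ⟨hxM, hxt⟩,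
    inf_le_left, ?_, le_inf hZM hZM'⟩
  intro heq
  have hle : M ≤ M' := by rw [← heq]; exact inf_le_right
  rcases hM.le_iff.mp hle with h1 | h1
  · exact hM'.1 h1
  · exact hUM' (by rw [h1, inf_idem])

/-- if no centralizer of a non-central element is abelian, `G/Z(G)` is a `p`-group -/
theorem quot_pgroup [Finite G]
    (h : ∀ g : G, g ∉ Subgroup.center G → IsCoatom (Subgroup.centralizer ({g} : Set G)))
    (hna : ∀ y : G, y ∉ Subgroup.center G →
      ¬ IsMulCommutative ↥(Subgroup.centralizer ({y} : Set G))) :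
    ∃ p : ℕ, p.Prime ∧ ∀ g : G, ∃ k : ℕ, g ^ (p ^ k) ∈ Subgroup.center G := by
  classical
  by_cases hab : ∀ g : G, g ∈ Subgroup.center G
  · exact ⟨2, Nat.prime_two, fun g => ⟨0, by simpa using hab g⟩⟩
  push Not at hab
  obtain ⟨g₀, hg₀⟩ := hab
  obtain ⟨n, hx, hpp⟩ := pp_power (Subgroup.center G) (orderOf g₀) g₀ rfl hg₀
  obtain ⟨p, e, hp, he, hpe⟩ := (isPrimePow_nat_iff _).mp hpp
  have hxe : (g₀ ^ n) ^ (p ^ e) = 1 := by rw [hpe, pow_orderOf_eq_one]
  generalize g₀ ^ n = x at hx hxe
  obtain ⟨U, hUn, hxU, hUM, hUne, hZU⟩ := exists_normal h hp x hx e hxe (hna x hx)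
  refine ⟨p, hp, fun g => ?_⟩
  obtain ⟨k, c, hcop, hc1, hord, hkc, -⟩ := ppart hp g
  refine ⟨k, ?_⟩
  by_contra hg'
  obtain ⟨n', hy, hpp'⟩ := pp_power (Subgroup.center G) (orderOf (g ^ (p ^ k))) (g ^ (p ^ k)) rfl hg'
  obtain ⟨q, j, hq, hj, hqj⟩ := (isPrimePow_nat_iff _).mp hpp'
  have hyp : (orderOf ((g ^ (p ^ k)) ^ n')).Coprime p :=
    Nat.Coprime.coprime_dvd_left (orderOf_pow_dvd n') hord
  have hyq : ((g ^ (p ^ k)) ^ n') ^ (q ^ j) = 1 := by rw [hqj, pow_orderOf_eq_one]
  generalize (g ^ (p ^ k)) ^ n' = y at hy hyp hyq hqj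
  have hqp : q ≠ p := by
    intro hqp
    rw [← hqj, hqp] at hyp
    have h1 : p ∣ 1 := by
      have h2 : p ∣ Nat.gcd (p ^ j) p := Nat.dvd_gcd (dvd_pow_self p (by omega)) dvd_rfl
      rwa [Nat.Coprime.gcd_eq_one hyp] at h2
    exact hp.one_lt.ne' (Nat.dvd_one.mp h1)
  have hxy : x ∉ Subgroup.centralizer ({y} : Set G) := by
    intro hxy
    have hc : Commute x y := by
      rw [Subgroup.mem_centralizer_singleton_iff] at hxy
      exact hxy
    have hox : (orderOf x).Coprime (orderOf y) := by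
      have h1 : orderOf x ∣ p ^ e := orderOf_dvd_of_pow_eq_one hxe
      exact Nat.Coprime.coprime_dvd_left h1 (Nat.Coprime.pow_left e hyp.symm)
    have he' := cent_eq_of_coprime h x y hx hy hc hox
    have hab := abelian_of_cent_eq h hp x y hx hy e hxe hyp he'.symm
    exact hna x hx ⟨⟨fun a b => Subtype.ext (hab a a.2 b b.2)⟩⟩
  have hC := h y hy
  have hsup : U ⊔ Subgroup.centralizer ({y} : Set G) = ⊤ := by
    apply hC.2
    refine lt_of_le_of_ne le_sup_right ?_
    intro heq
    apply hxy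
    rw [heq]
    exact Subgroup.mem_sup_left hxU
  apply hUne
  refine le_antisymm hUM ?_
  intro m hm
  have hm' : m ∈ U ⊔ Subgroup.centralizer ({y} : Set G) := by rw [hsup]; trivial
  haveI := hUn
  obtain ⟨u, hu, c₀, hc₀, rfl⟩ := Cfsg.Agent.Helper6.MaxCent.mem_sup_norm U _
    (by rw [Subgroup.normalizer_eq_top]; exact le_top) m hm'
  have hc₀M : c₀ ∈ Subgroup.centralizer ({x} : Set G) := by
    have : c₀ = u⁻¹ * (u * c₀) := by group
    rw [this]; exact mul_mem (inv_mem (hUM hu)) hm
  obtain ⟨k₁, hk₁⟩ := exists_pow_mem_center h hp x hx e hxe (hna x hx) c₀ hc₀M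
  obtain ⟨k₂, hk₂⟩ := exists_pow_mem_center h hq y hy j hyq (hna y hy) c₀ hc₀
  have hcZ : c₀ ∈ Subgroup.center G :=
    mem_of_pow_mem_coprime _ c₀ (p ^ k₁) (q ^ k₂)
      (Nat.Coprime.pow k₁ k₂ ((Nat.coprime_primes hp hq).mpr (Ne.symm hqp))) hk₁ hk₂
  exact mul_mem hu (hZU hcZ)

/-- a group which is a `p`-group modulo its center is nilpotent -/
theorem nilpotent_of_quot [Finite G] {p : ℕ} (hp : p.Prime)
    (hq : ∀ g : G, ∃ k : ℕ, g ^ (p ^ k) ∈ Subgroup.center G) : Group.IsNilpotent G := by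
  haveI := Fact.mk hp
  have hP : IsPGroup p (G ⧸ Subgroup.center G) := by
    intro q
    obtain ⟨g, rfl⟩ := QuotientGroup.mk_surjective q
    obtain ⟨k, hk⟩ := hq g
    exact ⟨k, by rw [← QuotientGroup.mk_pow]; exact (QuotientGroup.eq_one_iff _).mpr hk⟩
  haveI := hP.isNilpotent
  exact Subgroup.isNilpotent_of_ker_le_center (QuotientGroup.mk' (Subgroup.center G))
    (by rw [QuotientGroup.ker_mk'])

/-- maximal subgroups of nilpotent groups are normal -/
theorem coatom_normal [Group.IsNilpotent G] (M : Subgroup G) (hM : IsCoatom M) : M.Normal := by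
  have hnc := Group.normalizerCondition_of_isNilpotent (G := G)
  exact Subgroup.normalizer_eq_top_iff.mp (hM.2 _ (hnc M hM.lt_top))

/-- a normal abelian centralizer meets the centralizer of an outside element in the center -/
theorem inf_cent_eq_center
    (h : ∀ g : G, g ∉ Subgroup.center G → IsCoatom (Subgroup.centralizer ({g} : Set G)))
    (k : G) (hk : k ∉ Subgroup.center G)
    (hab : ∀ a ∈ Subgroup.centralizer ({k} : Set G), ∀ b ∈ Subgroup.centralizer ({k} : Set G),
      a * b = b * a)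
    (g : G) (hg : g ∉ Subgroup.centralizer ({k} : Set G)) :
    Subgroup.centralizer ({k} : Set G) ⊓ Subgroup.centralizer ({g} : Set G) = Subgroup.center G := by
  apply le_antisymm
  · intro a ha
    obtain ⟨ha1, ha2⟩ := Subgroup.mem_inf.mp ha
    by_contra haZ
    have hle : Subgroup.centralizer ({k} : Set G) ≤ Subgroup.centralizer ({a} : Set G) := by
      intro b hb
      rw [Subgroup.mem_centralizer_singleton_iff]
      exact hab b hb a ha1
    have hnt : Subgroup.centralizer ({a} : Set G) ≠ ⊤ := by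
      intro ht
      exact haZ (Subgroup.centralizer_eq_top_iff_subset.mp ht (Set.mem_singleton a))
    rcases (h k hk).le_iff.mp hle with h1 | h1
    · exact hnt h1
    · apply hg
      rw [← h1, Subgroup.mem_centralizer_singleton_iff]
      rw [Subgroup.mem_centralizer_singleton_iff] at ha2
      exact ha2.symm
  · exact le_inf (Subgroup.center_le_centralizer _) (Subgroup.center_le_centralizer _)

/-- an abelian centralizer of a non-central element yields a normal abelian centralizer -/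
theorem exists_normal_abelian [Finite G]
    (h : ∀ g : G, g ∉ Subgroup.center G → IsCoatom (Subgroup.centralizer ({g} : Set G)))
    (y : G) (hy : y ∉ Subgroup.center G)
    (hab : ∀ a ∈ Subgroup.centralizer ({y} : Set G), ∀ b ∈ Subgroup.centralizer ({y} : Set G),
      a * b = b * a) :
    ∃ k : G, k ∉ Subgroup.center G ∧ (Subgroup.centralizer ({k} : Set G)).Normal ∧
      ∀ a ∈ Subgroup.centralizer ({k} : Set G), ∀ b ∈ Subgroup.centralizer ({k} : Set G),
        a * b = b * a := by
  classical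
  by_cases hn : (Subgroup.centralizer ({y} : Set G)).Normal
  · exact ⟨y, hy, hn, hab⟩
  have hA := h y hy
  have hyA : y ∈ Subgroup.centralizer ({y} : Set G) :=
    Subgroup.mem_centralizer_singleton_iff.mpr rfl
  have hZA : Subgroup.center G ≤ Subgroup.centralizer ({y} : Set G) :=
    Subgroup.center_le_centralizer _
  generalize Subgroup.centralizer ({y} : Set G) = A at hab hn hA hyA hZA
  have hAZ : ∀ a ∈ A, a ∉ Subgroup.center G → Subgroup.centralizer ({a} : Set G) = A := by
    intro a ha haZ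
    have hle : A ≤ Subgroup.centralizer ({a} : Set G) := by
      intro b hb
      rw [Subgroup.mem_centralizer_singleton_iff]
      exact hab b hb a ha
    have hnt : Subgroup.centralizer ({a} : Set G) ≠ ⊤ := fun ht =>
      haZ (Subgroup.centralizer_eq_top_iff_subset.mp ht (Set.mem_singleton a))
    rcases hA.le_iff.mp hle with h1 | h1
    · exact absurd h1 hnt
    · exact h1
  have hNA : Subgroup.normalizer (A : Set G) = A := by
    rcases hA.le_iff.mp (Subgroup.le_normalizer (H := A)) with h1 | h1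
    · exact absurd (Subgroup.normalizer_eq_top_iff.mp h1) hn
    · exact h1
  have hTI : ∀ g : G, g ∉ A → ∀ a ∈ A, g * a * g⁻¹ ∈ A → a ∈ Subgroup.center G := by
    intro g hg a ha hga
    by_contra haZ
    have hbZ : g * a * g⁻¹ ∉ Subgroup.center G := by
      intro hb
      apply haZ
      have h1 := (inferInstance : (Subgroup.center G).Normal).conj_mem _ hb g⁻¹
      have e1 : g⁻¹ * (g * a * g⁻¹) * g⁻¹⁻¹ = a := by group
      rwa [e1] at h1
    have h1 := hAZ a ha haZ
    have h2 := hAZ _ hga hbZ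
    apply hg
    have hgN : g ∈ Subgroup.normalizer (A : Set G) := by
      rw [Subgroup.mem_normalizer_iff]
      intro n
      constructor
      · intro hn'
        rw [← h1, Subgroup.mem_centralizer_singleton_iff] at hn'
        rw [← h2, Subgroup.mem_centralizer_singleton_iff]
        calc g * n * g⁻¹ * (g * a * g⁻¹) = g * (n * a) * g⁻¹ := by group
          _ = g * (a * n) * g⁻¹ := by rw [hn']
          _ = g * a * g⁻¹ * (g * n * g⁻¹) := by group
      · intro hn'
        rw [← h2, Subgroup.mem_centralizer_singleton_iff] at hn'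
        rw [← h1, Subgroup.mem_centralizer_singleton_iff]
        calc n * a = g⁻¹ * (g * n * g⁻¹ * (g * a * g⁻¹)) * g := by group
          _ = g⁻¹ * (g * a * g⁻¹ * (g * n * g⁻¹)) * g := by rw [hn']
          _ = a * n := by group
    rw [hNA] at hgN
    exact hgN
  haveI hsolv : Group.IsSolvable G := Cfsg.Agent.S4262.result h
  have hex : ∃ n, derivedSeries G n ≤ Subgroup.center G := by
    obtain ⟨n, hn⟩ := hsolv.solvable
    exact ⟨n, by rw [hn]; exact bot_le⟩
  have hn0 : Nat.find hex ≠ 0 := by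
    intro h0
    have h1 := Nat.find_spec hex
    rw [h0, derivedSeries_zero] at h1
    exact hy (h1 (Subgroup.mem_top y))
  obtain ⟨m, hm⟩ := Nat.exists_eq_succ_of_ne_zero hn0
  have hL1 : ¬ derivedSeries G m ≤ Subgroup.center G :=
    Nat.find_min hex (by rw [hm]; exact Nat.lt_succ_self m)
  have hL2 : derivedSeries G (m + 1) ≤ Subgroup.center G := by
    have h1 := Nat.find_spec hex
    rwa [hm] at h1
  haveI hLn : (derivedSeries G m).Normal := derivedSeries_normal G m
  have hLc : ∀ a ∈ derivedSeries G m, ∀ b ∈ derivedSeries G m,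
      a * b * a⁻¹ * b⁻¹ ∈ Subgroup.center G := by
    intro a ha b hb
    apply hL2
    rw [derivedSeries_succ]
    exact Subgroup.commutator_mem_commutator ha hb
  generalize derivedSeries G m = L at hL1 hLn hLc
  obtain ⟨l₁, hl₁L, hl₁Z⟩ : ∃ l ∈ L, l ∉ Subgroup.center G := by
    by_contra hcon
    push Not at hcon
    exact hL1 (fun l hl => hcon l hl)
  obtain ⟨g₁, hg₁⟩ : ∃ g : G, g ∉ A := by
    by_contra hcon
    push Not at hcon
    exact hA.1 (eq_top_iff.mpr fun g _ => hcon g)
  obtain ⟨l₀, hl₀L, hl₀A⟩ : ∃ l ∈ L, l ∉ A := by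
    by_contra hcon
    push Not at hcon
    exact hl₁Z (hTI g₁ hg₁ l₁ (hcon l₁ hl₁L) (hcon _ (hLn.conj_mem l₁ hl₁L g₁)))
  have hLA : ∀ u ∈ L, u ∈ A → u ∈ Subgroup.center G := by
    intro u huL huA
    apply hTI l₀ hl₀A u huA
    have h1 : l₀ * u * l₀⁻¹ = (l₀ * u * l₀⁻¹ * u⁻¹) * u := by group
    rw [h1]
    exact mul_mem (hZA (hLc l₀ hl₀L u huL)) huA
  have hsupLA : L ⊔ A = ⊤ := by
    apply hA.2
    refine lt_of_le_of_ne le_sup_right ?_
    intro heq
    apply hl₀A
    rw [heq]
    exact Subgroup.mem_sup_left hl₀L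
  have hCk : ∀ k ∈ L, k ∉ Subgroup.center G →
      Subgroup.centralizer ({k} : Set G) ≤ L ⊔ Subgroup.center G := by
    intro k hkL hkZ c hc
    have hkA : k ∉ A := fun hkA => hkZ (hLA k hkL hkA)
    have hc' : c ∈ L ⊔ A := by rw [hsupLA]; trivial
    obtain ⟨l, hl, a, ha, rfl⟩ := Cfsg.Agent.Helper6.MaxCent.mem_sup_norm L A
      (by rw [Subgroup.normalizer_eq_top]; exact le_top) c hc'
    rw [Subgroup.mem_centralizer_singleton_iff] at hc
    have haZ : a ∈ Subgroup.center G := by
      apply hTI k⁻¹ (fun hk' => hkA (by simpa using inv_mem hk')) a ha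
      have h2 : a * k = l⁻¹ * k * l * a := by
        calc a * k = l⁻¹ * (l * a * k) := by group
          _ = l⁻¹ * (k * (l * a)) := by rw [hc]
          _ = l⁻¹ * k * l * a := by group
      have h1 : k⁻¹ * a * k⁻¹⁻¹ = (k⁻¹ * l⁻¹ * k⁻¹⁻¹ * l⁻¹⁻¹) * a := by
        calc k⁻¹ * a * k⁻¹⁻¹ = k⁻¹ * (a * k) := by group
          _ = k⁻¹ * (l⁻¹ * k * l * a) := by rw [h2]
          _ = (k⁻¹ * l⁻¹ * k⁻¹⁻¹ * l⁻¹⁻¹) * a := by group
      rw [h1]
      exact mul_mem (hZA (hLc k⁻¹ (inv_mem hkL) l⁻¹ (inv_mem hl))) ha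
    exact mul_mem (Subgroup.mem_sup_left hl) (Subgroup.mem_sup_right haZ)
  have hL1top : L ⊔ Subgroup.center G ≠ ⊤ := by
    intro htop
    have hy' : y ∈ L ⊔ Subgroup.center G := by rw [htop]; trivial
    obtain ⟨l, hl, z, hz, hyeq⟩ := Cfsg.Agent.Helper6.MaxCent.mem_sup_norm L (Subgroup.center G)
      (by rw [Subgroup.normalizer_eq_top]; exact le_top) y hy'
    have hlA : l ∈ A := by
      have : l = y * z⁻¹ := by rw [hyeq]; group
      rw [this]; exact mul_mem hyA (inv_mem (hZA hz))
    apply hy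
    rw [hyeq]
    exact mul_mem (hLA l hl hlA) hz
  have hCeq : ∀ k ∈ L, k ∉ Subgroup.center G →
      Subgroup.centralizer ({k} : Set G) = L ⊔ Subgroup.center G := by
    intro k hkL hkZ
    rcases (h k hkZ).le_iff.mp (hCk k hkL hkZ) with h1 | h1
    · exact absurd h1 hL1top
    · exact h1.symm
  refine ⟨l₁, hl₁Z, ?_, ?_⟩
  · rw [hCeq l₁ hl₁L hl₁Z]; infer_instance
  · rw [hCeq l₁ hl₁L hl₁Z]
    intro c₁ hc₁ c₂ hc₂
    obtain ⟨l, hl, z, hz, rfl⟩ := Cfsg.Agent.Helper6.MaxCent.mem_sup_norm L (Subgroup.center G)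
      (by rw [Subgroup.normalizer_eq_top]; exact le_top) c₂ hc₂
    by_cases hlZ : l ∈ Subgroup.center G
    · exact (Subgroup.mem_center_iff.mp (mul_mem hlZ hz) c₁)
    · rw [← hCeq l hl hlZ, Subgroup.mem_centralizer_singleton_iff] at hc₁
      calc c₁ * (l * z) = (c₁ * l) * z := by group
        _ = (l * c₁) * z := by rw [hc₁]
        _ = l * (c₁ * z) := by group
        _ = l * (z * c₁) := by rw [Subgroup.mem_center_iff.mp hz c₁]
        _ = l * z * c₁ := by group

end Cfsg.Agent.Helper6.MaxCent2
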