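import Mathlib
import Cfsg.Prelude.Def_Transfer

set_option autoImplicit false

namespace Cfsg.Agent.Helper6

open scoped Pointwise

universe u

theorem elemAb_map {P Q : Type u} [Group P] [Group Q] (p : ℕ) (f : P →* Q) (A : Subgroup P)
    (hA : Cfsg.IsElementaryAbelian p A) : Cfsg.IsElementaryAbelian p (A.map f) := by
  haveI := hA.1
  refine ⟨inferInstance, ?_⟩
  rintro _ ⟨a, ha, rfl⟩
  rw [← map_pow, hA.2 a ha, map_one]

theorem elemAb_subgroupOf {G : Type u} [Group G] (p : ℕ) (U A : Subgroup G)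
    (hA : Cfsg.IsElementaryAbelian p A) : Cfsg.IsElementaryAbelian p (A.subgroupOf U) := by
  haveI := hA.1
  refine ⟨inferInstance, ?_⟩
  intro a ha
  exact Subtype.ext (hA.2 a (Subgroup.mem_subgroupOf.mp ha))

theorem elemAb_bot {P : Type u} [Group P] (p : ℕ) : Cfsg.IsElementaryAbelian p (⊥ : Subgroup P) := by
  refine ⟨⟨⟨fun a b => ?_⟩⟩, ?_⟩
  · have ha : a = 1 := Subtype.ext (Subgroup.mem_bot.mp a.2)
    rw [ha, one_mul, mul_one]
  · intro a ha
    rw [Subgroup.mem_bot.mp ha, one_pow]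

theorem exists_maxElemAb (p : ℕ) (P : Type u) [Group P] [Finite P] :
    ∃ A : Subgroup P, A ∈ Cfsg.maxElementaryAbelianSubgroups p P := by
  haveI : Nonempty {A : Subgroup P // Cfsg.IsElementaryAbelian p A} := ⟨⟨⊥, elemAb_bot p⟩⟩
  obtain ⟨A, hA⟩ := Finite.exists_max
    (fun A : {A : Subgroup P // Cfsg.IsElementaryAbelian p A} => Nat.card (A : Subgroup P))
  exact ⟨A.1, A.2, fun B hB => hA ⟨B, hB⟩⟩

theorem maxElemAb_le_thompson {P : Type u} [Group P] (p : ℕ) (A : Subgroup P)
    (hA : A ∈ Cfsg.maxElementaryAbelianSubgroups p P) : A ≤ Cfsg.thompsonSubgroup p P :=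
  le_sSup hA

theorem thompson_le_of_forall {P : Type u} [Group P] (p : ℕ) (H : Subgroup P)
    (h : ∀ A ∈ Cfsg.maxElementaryAbelianSubgroups p P, A ≤ H) : Cfsg.thompsonSubgroup p P ≤ H :=
  sSup_le h

theorem maxElemAb_map_equiv {P Q : Type u} [Group P] [Group Q] [Finite P] (p : ℕ) (φ : P ≃* Q)
    (A : Subgroup P) (hA : A ∈ Cfsg.maxElementaryAbelianSubgroups p P) :
    A.map φ.toMonoidHom ∈ Cfsg.maxElementaryAbelianSubgroups p Q := by
  refine ⟨elemAb_map p _ A hA.1, ?_⟩
  intro B hB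
  have h1 := hA.2 (B.map φ.symm.toMonoidHom) (elemAb_map p _ B hB)
  rw [Subgroup.card_map_of_injective φ.symm.injective] at h1
  rw [Subgroup.card_map_of_injective φ.injective]
  exact h1

theorem thompson_map_equiv {P Q : Type u} [Group P] [Group Q] [Finite P] (p : ℕ) (φ : P ≃* Q) :
    (Cfsg.thompsonSubgroup p P).map φ.toMonoidHom ≤ Cfsg.thompsonSubgroup p Q := by
  rw [Subgroup.map_le_iff_le_comap]
  apply thompson_le_of_forall
  intro A hA
  rw [← Subgroup.map_le_iff_le_comap]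
  exact maxElemAb_le_thompson p _ (maxElemAb_map_equiv p φ A hA)

/-- A maximal elementary abelian subgroup of `G` inside `U` is one of `U`. -/
theorem maxElemAb_subgroupOf {G : Type u} [Group G] [Finite G] (p : ℕ) (U A : Subgroup G)
    (hA : A ∈ Cfsg.maxElementaryAbelianSubgroups p G) (hAU : A ≤ U) :
    A.subgroupOf U ∈ Cfsg.maxElementaryAbelianSubgroups p U := by
  refine ⟨elemAb_subgroupOf p U A hA.1, ?_⟩
  intro B hB
  have h1 := hA.2 (B.map U.subtype) (elemAb_map p _ B hB)
  rw [Subgroup.card_map_of_injective U.subtype_injective] at h1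
  have h2 : Nat.card (A.subgroupOf U) = Nat.card A :=
    Nat.card_congr (Subgroup.subgroupOfEquivOfLe hAU).toEquiv
  rw [h2]; exact h1

theorem elemAb_isPGroup {G : Type u} [Group G] (p : ℕ) (A : Subgroup G)
    (hA : Cfsg.IsElementaryAbelian p A) : IsPGroup p A := by
  intro a
  refine ⟨1, ?_⟩
  rw [pow_one]
  exact Subtype.ext (hA.2 a a.2)

/-- If `U` contains some maximal elementary abelian subgroup of `G`, then the maximal elementary
abelian subgroups of `U` are maximal elementary abelian subgroups of `G`. -/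
theorem maxElemAb_map_subtype {G : Type u} [Group G] [Finite G] (p : ℕ) (U : Subgroup G)
    (A₀ : Subgroup G) (hA₀ : A₀ ∈ Cfsg.maxElementaryAbelianSubgroups p G) (hA₀U : A₀ ≤ U)
    (B : Subgroup U) (hB : B ∈ Cfsg.maxElementaryAbelianSubgroups p U) :
    B.map U.subtype ∈ Cfsg.maxElementaryAbelianSubgroups p G := by
  refine ⟨elemAb_map p _ B hB.1, ?_⟩
  intro C hC
  have h1 := hA₀.2 C hC
  have h2 := hB.2 (A₀.subgroupOf U) (elemAb_subgroupOf p U A₀ hA₀.1)
  have h3 : Nat.card (A₀.subgroupOf U) = Nat.card A₀ :=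
    Nat.card_congr (Subgroup.subgroupOfEquivOfLe hA₀U).toEquiv
  rw [Subgroup.card_map_of_injective U.subtype_injective]
  omega

theorem thompsonOf_eq_of_le {G : Type u} [Group G] [Finite G] (p : ℕ) (U : Subgroup G)
    (hU : Cfsg.thompsonSubgroup p G ≤ U) :
    Cfsg.thompsonSubgroupOf p U = Cfsg.thompsonSubgroup p G := by
  obtain ⟨A₀, hA₀⟩ := exists_maxElemAb p G
  have hA₀U : A₀ ≤ U := le_trans (maxElemAb_le_thompson p A₀ hA₀) hU
  apply le_antisymm
  · unfold Cfsg.thompsonSubgroupOf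
    rw [Subgroup.map_le_iff_le_comap]
    apply thompson_le_of_forall
    intro B hB
    rw [← Subgroup.map_le_iff_le_comap]
    exact maxElemAb_le_thompson p _ (maxElemAb_map_subtype p U A₀ hA₀ hA₀U B hB)
  · apply thompson_le_of_forall
    intro A hA
    have hAU : A ≤ U := le_trans (maxElemAb_le_thompson p A hA) hU
    have h1 := maxElemAb_le_thompson p _ (maxElemAb_subgroupOf p U A hA hAU)
    have h2 := Subgroup.map_mono (f := U.subtype) h1
    rw [Subgroup.map_subgroupOf_eq_of_le hAU] at h2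
    exact h2

end Cfsg.Agent.Helper6
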