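import Mathlib
import Cfsg.Agent.Helper6.A10Grp

set_option autoImplicit false

namespace Cfsg.Agent.Helper6.U33D

open Cfsg.Agent.Helper6.A10Data

def ua : List ℕ := [0, 0, 0, 3, 0, 0, 1, 0, 3, 0, 0, 0, 0, 3, 0, 0]
def uai : List ℕ := [0, 0, 5, 0, 0, 0, 0, 5, 0, 1, 0, 0, 5, 0, 0, 0]
def ub : List ℕ := [6, 1, 0, 0, 2, 1, 0, 0, 0, 0, 6, 3, 0, 0, 6, 1]
def ubi : List ℕ := [2, 5, 0, 0, 3, 5, 0, 0, 0, 0, 4, 2, 0, 0, 4, 3]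

def UL : List (List ℕ) := [
  [0, 0, 0, 1, 0, 0, 5, 0, 2, 0, 0, 0, 0, 2, 0, 0],
  [0, 0, 0, 2, 0, 0, 3, 0, 1, 0, 0, 0, 0, 1, 0, 0],
  [0, 0, 0, 3, 0, 0, 1, 0, 3, 0, 0, 0, 0, 3, 0, 0],
  [0, 0, 0, 4, 0, 0, 6, 0, 4, 0, 0, 0, 0, 4, 0, 0],
  [0, 0, 0, 5, 0, 0, 4, 0, 6, 0, 0, 0, 0, 6, 0, 0],
  [0, 0, 0, 6, 0, 0, 2, 0, 5, 0, 0, 0, 0, 5, 0, 0],
  [0, 0, 1, 0, 0, 0, 0, 1, 0, 5, 0, 0, 4, 0, 0, 0],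
  [0, 0, 1, 4, 0, 0, 1, 6, 4, 2, 0, 0, 4, 3, 0, 0],
  [0, 0, 1, 6, 0, 0, 5, 6, 2, 5, 0, 0, 3, 5, 0, 0],
  [0, 0, 2, 0, 0, 0, 0, 2, 0, 6, 0, 0, 2, 0, 0, 0],
  [0, 0, 2, 1, 0, 0, 2, 5, 2, 1, 0, 0, 2, 5, 0, 0],
  [0, 0, 2, 5, 0, 0, 3, 5, 1, 6, 0, 0, 5, 6, 0, 0],
  [0, 0, 3, 0, 0, 0, 0, 3, 0, 4, 0, 0, 6, 0, 0, 0],
  [0, 0, 3, 4, 0, 0, 1, 4, 3, 4, 0, 0, 1, 4, 0, 0],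
  [0, 0, 3, 5, 0, 0, 3, 4, 6, 3, 0, 0, 6, 1, 0, 0],
  [0, 0, 4, 0, 0, 0, 0, 4, 0, 3, 0, 0, 1, 0, 0, 0],
  [0, 0, 4, 2, 0, 0, 4, 3, 1, 4, 0, 0, 1, 6, 0, 0],
  [0, 0, 4, 3, 0, 0, 6, 3, 4, 3, 0, 0, 6, 3, 0, 0],
  [0, 0, 5, 0, 0, 0, 0, 5, 0, 1, 0, 0, 5, 0, 0, 0],
  [0, 0, 5, 2, 0, 0, 4, 2, 6, 1, 0, 0, 2, 1, 0, 0],
  [0, 0, 5, 6, 0, 0, 5, 2, 5, 6, 0, 0, 5, 2, 0, 0],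
  [0, 0, 6, 0, 0, 0, 0, 6, 0, 2, 0, 0, 3, 0, 0, 0],
  [0, 0, 6, 1, 0, 0, 2, 1, 5, 2, 0, 0, 4, 2, 0, 0],
  [0, 0, 6, 3, 0, 0, 6, 1, 3, 5, 0, 0, 3, 4, 0, 0],
  [0, 1, 0, 0, 5, 0, 0, 0, 0, 0, 0, 4, 0, 0, 6, 0],
  [0, 2, 0, 0, 3, 0, 0, 0, 0, 0, 0, 2, 0, 0, 3, 0],
  [0, 3, 0, 0, 1, 0, 0, 0, 0, 0, 0, 6, 0, 0, 2, 0],
  [0, 4, 0, 0, 6, 0, 0, 0, 0, 0, 0, 1, 0, 0, 5, 0],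
  [0, 5, 0, 0, 4, 0, 0, 0, 0, 0, 0, 5, 0, 0, 4, 0],
  [0, 6, 0, 0, 2, 0, 0, 0, 0, 0, 0, 3, 0, 0, 1, 0],
  [1, 0, 0, 0, 0, 1, 0, 0, 0, 0, 1, 0, 0, 0, 0, 1],
  [1, 4, 0, 0, 1, 6, 0, 0, 0, 0, 6, 1, 0, 0, 2, 1],
  [1, 6, 0, 0, 5, 6, 0, 0, 0, 0, 1, 4, 0, 0, 1, 6],
  [2, 0, 0, 0, 0, 2, 0, 0, 0, 0, 4, 0, 0, 0, 0, 4],
  [2, 1, 0, 0, 2, 5, 0, 0, 0, 0, 3, 4, 0, 0, 1, 4],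
  [2, 5, 0, 0, 3, 5, 0, 0, 0, 0, 4, 2, 0, 0, 4, 3],
  [3, 0, 0, 0, 0, 3, 0, 0, 0, 0, 5, 0, 0, 0, 0, 5],
  [3, 4, 0, 0, 1, 4, 0, 0, 0, 0, 5, 6, 0, 0, 5, 2],
  [3, 5, 0, 0, 3, 4, 0, 0, 0, 0, 2, 5, 0, 0, 3, 5],
  [4, 0, 0, 0, 0, 4, 0, 0, 0, 0, 2, 0, 0, 0, 0, 2],
  [4, 2, 0, 0, 4, 3, 0, 0, 0, 0, 5, 2, 0, 0, 4, 2],
  [4, 3, 0, 0, 6, 3, 0, 0, 0, 0, 2, 1, 0, 0, 2, 5],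
  [5, 0, 0, 0, 0, 5, 0, 0, 0, 0, 3, 0, 0, 0, 0, 3],
  [5, 2, 0, 0, 4, 2, 0, 0, 0, 0, 3, 5, 0, 0, 3, 4],
  [5, 6, 0, 0, 5, 2, 0, 0, 0, 0, 4, 3, 0, 0, 6, 3],
  [6, 0, 0, 0, 0, 6, 0, 0, 0, 0, 6, 0, 0, 0, 0, 6],
  [6, 1, 0, 0, 2, 1, 0, 0, 0, 0, 6, 3, 0, 0, 6, 1],
  [6, 3, 0, 0, 6, 1, 0, 0, 0, 0, 1, 6, 0, 0, 5, 6]]

def chkU (c : List ℕ) : Prop :=
  c = oneC ∨ (P3 c = oneC ∧ addC oneC (addC c (P2 c)) = zeroC) ∨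
    c = negC ∨ P2 c = negC ∨ P3 c = negC ∨ P4 c = negC ∨ P6 c = negC

instance (c : List ℕ) : Decidable (chkU c) := by unfold chkU; infer_instance

theorem u_one_mem : oneC ∈ UL := by decide +kernel
theorem uclos_a : ∀ c ∈ UL, mulC ua c ∈ UL := by decide +kernel
theorem uclos_ai : ∀ c ∈ UL, mulC uai c ∈ UL := by decide +kernel
theorem uclos_b : ∀ c ∈ UL, mulC ub c ∈ UL := by decide +kernel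
theorem uclos_bi : ∀ c ∈ UL, mulC ubi c ∈ UL := by decide +kernel
theorem uchk_all : ∀ c ∈ UL, chkU c := by decide +kernel
theorem ua_inv : mulC ua uai = oneC := by decide +kernel
theorem ua_inv' : mulC uai ua = oneC := by decide +kernel
theorem ub_inv : mulC ub ubi = oneC := by decide +kernel
theorem ub_inv' : mulC ubi ub = oneC := by decide +kernel
theorem ua_p4 : P4 ua = negC := by decide +kernel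
theorem ub_p6 : P6 ub = negC := by decide +kernel

end Cfsg.Agent.Helper6.U33D
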